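import Groth.Prelude.Def_BlowUp2
import Groth.Agent.QCoh.Support
import Groth.Agent.InvX.Tensor
import Groth.Agent.AssPtX.Basic
import Mathlib.AlgebraicGeometry.IdealSheaf.Functorial
import Mathlib.AlgebraicGeometry.Noetherian
import Mathlib.RingTheory.Ideal.KrullsHeightTheorem

/-!
# The divisorial part of a closed subscheme
-/

set_option autoImplicit false
set_option linter.style.haveILetI false
set_option backward.isDefEq.respectTransparency false
set_option backward.isDefEq.respectTransparency.types false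

universe u

open CategoryTheory AlgebraicGeometry TopologicalSpace IsLocalRing

namespace Groth.Agent.Div86.DivPart

/-- Membership in a product of powers of principal primes is tested at these primes. -/
theorem mem_span_prod {A : Type u} [CommRing A] {ι : Type*} (s : Finset ι) (g : ι → A) (a : ι → ℕ)
    (hg : ∀ i ∈ s, g i ∈ nonZeroDivisors A) (hp : ∀ i ∈ s, (Ideal.span {g i}).IsPrime)
    (hne : ∀ i ∈ s, ∀ j ∈ s, i ≠ j → g i ∉ Ideal.span {g j}) (f : A)
    (h : ∀ i ∈ s, ∃ t ∉ Ideal.span {g i}, t * f ∈ Ideal.span {g i ^ a i}) :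
    f ∈ Ideal.span {∏ i ∈ s, g i ^ a i} := by
  classical
  induction s using Finset.induction_on with
  | empty => simp
  | insert j s hj ih =>
    obtain ⟨f', rfl⟩ := Ideal.mem_span_singleton.1 (ih (fun i hi => hg i (Finset.mem_insert_of_mem hi))
      (fun i hi => hp i (Finset.mem_insert_of_mem hi))
      (fun i hi k hk => hne i (Finset.mem_insert_of_mem hi) k (Finset.mem_insert_of_mem hk))
      fun i hi => h i (Finset.mem_insert_of_mem hi))
    obtain ⟨t, ht, htf⟩ := h j (Finset.mem_insert_self j s)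
    haveI := hp j (Finset.mem_insert_self j s)
    set P := ∏ i ∈ s, g i ^ a i
    have hP : P ∉ Ideal.span {g j} := fun hh => by
      obtain ⟨i, hi, hmem⟩ := ((hp j (Finset.mem_insert_self j s)).prod_mem_iff).1 hh
      exact hne i (Finset.mem_insert_of_mem hi) j (Finset.mem_insert_self j s) (fun e => hj (e ▸ hi))
        ((hp j (Finset.mem_insert_self j s)).mem_of_pow_mem _ hmem)
    have hT : t * P ∉ Ideal.span {g j} := fun hh => ((hp j (Finset.mem_insert_self j s)).mem_or_mem hh).elim ht hP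
    have key : ∀ (n : ℕ) (e : A), g j ^ n ∣ t * P * e → g j ^ n ∣ e := by
      intro n
      induction n with
      | zero => intro e _; simp
      | succ n ih =>
        intro e he
        obtain ⟨e', rfl⟩ : g j ∣ e := Ideal.mem_span_singleton.1
          (((hp j (Finset.mem_insert_self j s)).mem_or_mem
            (Ideal.mem_span_singleton.2 ((dvd_pow_self (g j) n.succ_ne_zero).trans he))).resolve_left hT)
        obtain ⟨c, hc⟩ := he
        rw [pow_succ', mul_dvd_mul_iff_left_of_mem_nonZeroDivisors (hg j (Finset.mem_insert_self j s))]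
        refine ih e' ⟨c, (mul_cancel_left_mem_nonZeroDivisors (hg j (Finset.mem_insert_self j s))).1 ?_⟩
        linear_combination hc
    obtain ⟨e, rfl⟩ := key (a j) f' (by rw [mul_assoc]; exact Ideal.mem_span_singleton.1 htf)
    rw [Finset.prod_insert hj]
    exact Ideal.mem_span_singleton.2 ⟨e, by ring⟩
where
  mul_dvd_mul_iff_left_of_mem_nonZeroDivisors {A : Type u} [CommRing A] {g b c : A}
      (hg : g ∈ nonZeroDivisors A) : g * b ∣ g * c ↔ b ∣ c :=
    ⟨fun ⟨d, hd⟩ => ⟨d, (mul_cancel_left_mem_nonZeroDivisors hg).1 (by linear_combination hd)⟩,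
      mul_dvd_mul_left g⟩

/-- A non-zero ideal of a Noetherian local ring with principal maximal ideal is a power of it. -/
theorem exists_eq_pow {R : Type u} [CommRing R] [IsNoetherianRing R] [IsLocalRing R] {π : R}
    (hπ : maximalIdeal R = Ideal.span {π}) (J : Ideal R) (hJ : J ≠ ⊥) :
    ∃ n : ℕ, J = maximalIdeal R ^ n := by
  classical
  have hrep : ∀ f : R, f ≠ 0 → ∃ n : ℕ, Associated f (π ^ n) := by
    intro f hf
    have hex : ∃ n, f ∉ maximalIdeal R ^ n := by
      by_contra hh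
      push Not at hh
      exact hf (by simpa [Ideal.iInf_pow_eq_bot_of_isLocalRing _ (maximalIdeal.isMaximal R).ne_top]
        using (Submodule.mem_iInf _).2 hh)
    obtain ⟨n, hn⟩ : ∃ n, Nat.find hex = n + 1 := Nat.exists_eq_succ_of_ne_zero fun h0 => by
      have := Nat.find_spec hex
      rw [h0, pow_zero, Ideal.one_eq_top] at this
      exact this trivial
    have h1 : f ∈ maximalIdeal R ^ n := not_not.1 (Nat.find_min hex (by omega))
    have h2 : f ∉ maximalIdeal R ^ (n + 1) := hn ▸ Nat.find_spec hex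
    rw [hπ, Ideal.span_singleton_pow, Ideal.mem_span_singleton] at h1 h2
    obtain ⟨c, rfl⟩ := h1
    refine ⟨n, (associated_mul_unit_right (π ^ n) c ?_).symm⟩
    by_contra hc
    exact h2 (by rw [pow_succ]; exact mul_dvd_mul_left _ (Ideal.mem_span_singleton.1 (hπ.le ((mem_maximalIdeal _).2 hc))))
  obtain ⟨f, hfJ, hf⟩ := Submodule.exists_mem_ne_zero_of_ne_bot hJ
  have hex : ∃ n, π ^ n ∈ J := by
    obtain ⟨n, hn⟩ := hrep f hf
    exact ⟨n, Ideal.mem_of_dvd _ hn.dvd hfJ⟩
  refine ⟨Nat.find hex, le_antisymm (fun e he => ?_) ?_⟩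
  · rcases eq_or_ne e 0 with rfl | he0
    · exact zero_mem _
    obtain ⟨k, hk⟩ := hrep e he0
    rw [hπ, Ideal.span_singleton_pow, Ideal.mem_span_singleton]
    exact (pow_dvd_pow π (Nat.find_min' hex (Ideal.mem_of_dvd _ hk.dvd he))).trans hk.dvd'
  · rw [hπ, Ideal.span_singleton_pow, Ideal.span_singleton_le_iff_mem]
    exact Nat.find_spec hex

variable {X : Scheme.{u}}

lemma eq_top_of_disjoint (I : X.IdealSheafData) {V : X.Opens} (hV : IsAffineOpen V)
    (h : ∀ y ∈ V, y ∉ I.support) : I.ideal ⟨V, hV⟩ = ⊤ := by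
  by_contra hne
  obtain ⟨q, hq, hle⟩ := Ideal.exists_le_maximal _ hne
  obtain ⟨y, hy, hyq⟩ := QCoh.exists_point hV ⟨q, hq.isPrime⟩
  refine h y hy ?_
  rw [I.mem_support_iff_of_mem (U := ⟨V, hV⟩) hy, Scheme.mem_zeroLocus_iff]
  intro g hg hyg
  refine (QCoh.mem_basicOpen_iff_notMem hV hy g).1 hyg ?_
  rw [show (hV.primeIdealOf ⟨y, hy⟩).asIdeal = q from congrArg PrimeSpectrum.asIdeal hyq]
  exact hle hg

lemma ideal_le_prime (I : X.IdealSheafData) {V : X.Opens} (hV : IsAffineOpen V) {y : X} (hy : y ∈ V)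
    (h : y ∈ I.support) : I.ideal ⟨V, hV⟩ ≤ (hV.primeIdealOf ⟨y, hy⟩).asIdeal := by
  intro g hg
  by_contra hmem
  rw [I.mem_support_iff_of_mem (U := ⟨V, hV⟩) hy, Scheme.mem_zeroLocus_iff] at h
  exact h g hg ((QCoh.mem_basicOpen_iff_notMem hV hy g).2 hmem)

lemma mem_support_of_le_prime (I : X.IdealSheafData) {V : X.Opens} (hV : IsAffineOpen V) {y : X} (hy : y ∈ V)
    (h : I.ideal ⟨V, hV⟩ ≤ (hV.primeIdealOf ⟨y, hy⟩).asIdeal) : y ∈ I.support := by
  rw [I.mem_support_iff_of_mem (U := ⟨V, hV⟩) hy, Scheme.mem_zeroLocus_iff]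
  intro g hg hyg
  exact (QCoh.mem_basicOpen_iff_notMem hV hy g).1 hyg (h hg)

/-- The generic point of an integral closed subscheme. -/
noncomputable def gpt (I : X.IdealSheafData) [IsIntegral I.subscheme] : X :=
  I.subschemeι (genericPoint I.subscheme)

lemma gpt_mem (I : X.IdealSheafData) [IsIntegral I.subscheme] : gpt I ∈ I.support := by
  have h : gpt I ∈ Set.range I.subschemeι := ⟨_, rfl⟩
  rwa [Scheme.IdealSheafData.range_subschemeι] at h

lemma gpt_specializes (I : X.IdealSheafData) [IsIntegral I.subscheme] {y : X} (hy : y ∈ I.support) :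
    gpt I ⤳ y := by
  have h : y ∈ Set.range I.subschemeι := by rwa [Scheme.IdealSheafData.range_subschemeι]
  obtain ⟨z, rfl⟩ := h
  exact ((genericPoint_spec I.subscheme).specializes trivial).map I.subschemeι.continuous

lemma prime_eq (I : X.IdealSheafData) [IsIntegral I.subscheme] {V : X.Opens} (hV : IsAffineOpen V)
    (hξ : gpt I ∈ V) : (hV.primeIdealOf ⟨gpt I, hξ⟩).asIdeal = I.ideal ⟨V, hV⟩ := by
  haveI : Nonempty (I.subschemeι ⁻¹ᵁ V : I.subscheme.Opens) := ⟨⟨genericPoint I.subscheme, hξ⟩⟩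
  haveI hprime : (I.ideal ⟨V, hV⟩).IsPrime := by
    rw [← I.ker_subschemeι_app ⟨V, hV⟩]
    exact RingHom.ker_isPrime _
  obtain ⟨y, hy, hyq⟩ := QCoh.exists_point hV ⟨I.ideal ⟨V, hV⟩, hprime⟩
  have hy' : (hV.primeIdealOf ⟨y, hy⟩).asIdeal = I.ideal ⟨V, hV⟩ := congrArg PrimeSpectrum.asIdeal hyq
  refine le_antisymm (((AssPtX.primeIdealOf_le_iff hV hξ hy).2 ?_).trans hy'.le) (ideal_le_prime I hV hξ (gpt_mem I))
  exact gpt_specializes I (mem_support_of_le_prime I hV hy hy'.ge)

variable [IsNoetherian X]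

lemma germ_mem_nonZeroDivisors {U : X.Opens} (hU : IsAffineOpen U) {f : Γ(X, U)}
    (hf : f ∈ nonZeroDivisors Γ(X, U)) {x : X} (hx : x ∈ U) :
    X.presheaf.germ U x hx f ∈ nonZeroDivisors (X.presheaf.stalk x) := by
  letI := QCoh.stalkAlg (X := X) hx
  haveI := QCoh.isLocalization_stalk' hU hx
  exact IsLocalization.map_nonZeroDivisors_le (hU.primeIdealOf ⟨x, hx⟩).asIdeal.primeCompl
    (X.presheaf.stalk x) ⟨f, hf, rfl⟩

lemma res_mem_nonZeroDivisors {U V : X.Opens} (hU : IsAffineOpen U) (h : V ≤ U) {f : Γ(X, U)}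
    (hf : f ∈ nonZeroDivisors Γ(X, U)) : AModX.resR h f ∈ nonZeroDivisors Γ(X, V) := by
  rw [mem_nonZeroDivisors_iff_right]
  intro r hr
  refine TopCat.Presheaf.section_ext X.sheaf V r 0 fun y hy => ?_
  show X.presheaf.germ V y hy r = X.presheaf.germ V y hy 0
  rw [map_zero]
  have h1 := congrArg (X.presheaf.germ V y hy) hr
  rw [map_mul, map_zero, InvX.germ_resR' h hy f] at h1
  exact mem_nonZeroDivisors_iff_right.1 (germ_mem_nonZeroDivisors hU hf (h hy)) _ h1

lemma one_le_dim_of_mem_support {D : X.IdealSheafData} (hD : BlowUp.IsEffCartierIdeal D) {z : X}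
    (hz : z ∈ D.support) : (1 : WithBot ℕ∞) ≤ ringKrullDim (X.presheaf.stalk z) := by
  obtain ⟨U, hzU, f, hf, hDf⟩ := hD z
  have hg := germ_mem_nonZeroDivisors U.2 hf hzU
  by_contra hlt
  haveI : Ring.KrullDimLE 0 (X.presheaf.stalk z) := by
    rw [Ring.krullDimLE_iff]
    exact Order.le_of_lt_succ (α := WithBot ℕ∞) (lt_of_lt_of_le (not_le.1 hlt) (by decide))
  have hmem : X.presheaf.germ U.1 z hzU f ∈ maximalIdeal (X.presheaf.stalk z) := fun hu => by
    rw [D.mem_support_iff_of_mem (U := U) hzU, Scheme.mem_zeroLocus_iff] at hz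
    exact hz f (hDf ▸ Ideal.mem_span_singleton_self f) ((X.mem_basicOpen f z hzU).2 hu)
  rw [← Ring.KrullDimLE.nilradical_eq_maximalIdeal] at hmem
  obtain ⟨n, hn⟩ := (mem_nilradical.1 hmem)
  exact zero_notMem_nonZeroDivisors (hn ▸ pow_mem hg n)

/-- A point of a divisor with local ring of dimension at most one is its generic point. -/
lemma eq_gpt {D : X.IdealSheafData} [IsIntegral D.subscheme] (hD : BlowUp.IsEffCartierIdeal D) {z : X}
    (hz : z ∈ D.support) (hd : ringKrullDim (X.presheaf.stalk z) ≤ 1) : gpt D = z := by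
  by_contra hne
  have h1 := one_le_dim_of_mem_support hD (gpt_mem D)
  rw [ringKrullDim_stalk_eq_coheight] at h1 hd
  have hlt : z < gpt D := lt_of_le_not_ge (gpt_specializes D hz)
    fun h => hne (Specializes.antisymm (gpt_specializes D hz) h).eq
  have h2 : ((Order.coheight (gpt D) + 1 : ℕ∞) : WithBot ℕ∞) ≤ 1 :=
    (WithBot.coe_le_coe.2 (Order.coheight_add_one_le hlt)).trans hd
  have h3 : (1 : ℕ∞) ≤ Order.coheight (gpt D) := WithBot.coe_le_coe.1 h1
  have h4 : Order.coheight (gpt D) + 1 ≤ 1 := WithBot.coe_le_coe.1 h2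
  exact absurd ((add_le_add h3 le_rfl).trans h4) (by decide)

lemma exists_uniformizer {D : X.IdealSheafData} [IsIntegral D.subscheme] (hD : BlowUp.IsEffCartierIdeal D) :
    ringKrullDim (X.presheaf.stalk (gpt D)) ≤ 1 ∧
    ∀ (V : X.Opens) (hV : IsAffineOpen V) (hξ : gpt D ∈ V) (g : Γ(X, V)),
      D.ideal ⟨V, hV⟩ = Ideal.span {g} →
      maximalIdeal (X.presheaf.stalk (gpt D)) = Ideal.span {X.presheaf.germ V _ hξ g} := by
  have hmax : ∀ (V : X.Opens) (hV : IsAffineOpen V) (hξ : gpt D ∈ V) (g : Γ(X, V)),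
      D.ideal ⟨V, hV⟩ = Ideal.span {g} →
      maximalIdeal (X.presheaf.stalk (gpt D)) = Ideal.span {X.presheaf.germ V _ hξ g} := by
    intro V hV hξ g hg
    letI := QCoh.stalkAlg (X := X) hξ
    haveI := QCoh.isLocalization_stalk' hV hξ
    rw [← IsLocalization.AtPrime.map_eq_maximalIdeal (hV.primeIdealOf ⟨gpt D, hξ⟩).asIdeal
      (X.presheaf.stalk (gpt D)), prime_eq D hV hξ, hg, Ideal.map_span, Set.image_singleton]
    rfl
  refine ⟨?_, hmax⟩
  obtain ⟨U, hξU, f, -, hDf⟩ := hD (gpt D)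
  haveI : (maximalIdeal (X.presheaf.stalk (gpt D))).IsPrincipal :=
    ⟨⟨_, hmax U.1 U.2 hξU f hDf⟩⟩
  rw [← IsLocalRing.maximalIdeal_height_eq_ringKrullDim]
  exact WithBot.coe_le_coe.2 (Ideal.height_le_one_of_isPrincipal_of_mem_minimalPrimes
    (maximalIdeal (X.presheaf.stalk (gpt D))) (maximalIdeal (X.presheaf.stalk (gpt D)))
    (by rw [Ideal.minimalPrimes_eq_subsingleton_self]; rfl))

end Groth.Agent.Div86.DivPart
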