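import Groth.Agent.CycLib.Div
import Groth.Agent.CycLib.DivMap
import Groth.Agent.H23.RatSec
import Mathlib.AlgebraicGeometry.OrderOfVanishing

/-!
# Orders along the generic point of an integral scheme
-/

set_option autoImplicit false
set_option linter.style.haveILetI false
set_option backward.isDefEq.respectTransparency false
set_option backward.isDefEq.respectTransparency.types false

universe u

open CategoryTheory AlgebraicGeometry TopologicalSpace Groth.Agent.H23

namespace Groth.Agent.Div86

variable {X : Scheme.{u}} [IsIntegral X]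

/-- Rational functions as elements of the residue field at the generic point. -/
noncomputable abbrev resG (X : Scheme.{u}) [IsIntegral X] :
    X.functionField →+* X.residueField (genericPoint X) :=
  (X.residue (genericPoint X)).hom

lemma resG_injective : Function.Injective (resG X) :=
  RingHom.injective (R := X.functionField) (resG X)

lemma resG_ne_zero {f : X.functionField} (hf : f ≠ 0) : resG X f ≠ 0 :=
  (map_ne_zero_iff _ resG_injective).2 hf

lemma specMap_generic {x : X} (h : genericPoint X ⤳ x) (a : X.presheaf.stalk x) :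
    Cyc.specMap x (genericPoint X) h a = resG X (algebraMap (X.presheaf.stalk x) X.functionField a) := rfl

lemma ker_specMap_generic {x : X} (h : genericPoint X ⤳ x) :
    RingHom.ker (Cyc.specMap x (genericPoint X) h) = ⊥ :=
  (RingHom.injective_iff_ker_eq_bot _).1 fun _ _ hab =>
    IsFractionRing.injective (X.presheaf.stalk x) X.functionField (resG_injective hab)

/-- `O_x` modulo the generic point is `O_x`. -/
noncomputable def locQuotEquiv {x : X} (h : genericPoint X ⤳ x) :
    Cyc.LocQuot x (genericPoint X) h ≃+* X.presheaf.stalk x :=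
  (Ideal.quotEquivOfEq (ker_specMap_generic h)).trans (RingEquiv.quotientBot _)

lemma locQuotEquiv_mk {x : X} (h : genericPoint X ⤳ x) (a : X.presheaf.stalk x) :
    locQuotEquiv h (Ideal.Quotient.mk _ a) = a := rfl

variable [IsLocallyNoetherian X]

lemma krullDimLE_one {x : X} (hx : Order.coheight x = 1) : Ring.KrullDimLE 1 (X.presheaf.stalk x) :=
  krullDimLE_of_coheight_le hx.le

lemma krullDimLE_locQuot_generic {x : X} (h : genericPoint X ⤳ x) (hx : Order.coheight x = 1) :
    Ring.KrullDimLE 1 (Cyc.LocQuot x (genericPoint X) h) := by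
  rw [Ring.krullDimLE_iff, ringKrullDim_eq_of_ringEquiv (locQuotEquiv h), ringKrullDim_stalk_eq_coheight, hx]
  rfl

lemma ord_algebraMap {x : X} (hx : Order.coheight x = 1) {a : X.presheaf.stalk x} (ha : a ≠ 0) :
    Scheme.ord (algebraMap (X.presheaf.stalk x) X.functionField a) x =
      ((Ring.ord (X.presheaf.stalk x) a).toNat : ℤ) := by
  haveI := krullDimLE_one hx
  rw [Scheme.ord_eq_iff hx ((map_ne_zero_iff _ (IsFractionRing.injective _ _)).2 ha)]
  show Ring.ordFrac (X.presheaf.stalk x) (algebraMap (X.presheaf.stalk x) X.functionField a) = _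
  rw [Ring.ordFrac_eq_ord _ ha]
  obtain ⟨n, hn⟩ := ENat.ne_top_iff_exists.mp (Ring.ord_ne_top (mem_nonZeroDivisors_of_ne_zero ha))
  rw [Ring.ordMonoidWithZeroHom_eq_coe _ (mem_nonZeroDivisors_of_ne_zero ha) hn.symm, ← hn]
  rfl

/-- The order along the generic point is the order of vanishing. -/
theorem ordAt_generic {x : X} (h : genericPoint X ⤳ x) (hx : Order.coheight x = 1) {f : X.functionField}
    (hf : f ≠ 0) : Cyc.ordAt x (genericPoint X) h (resG X f) = Scheme.ord f x := by
  haveI := krullDimLE_locQuot_generic h hx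
  have key : ∀ a : X.presheaf.stalk x, a ≠ 0 →
      Cyc.ordAt x (genericPoint X) h (resG X (algebraMap (X.presheaf.stalk x) X.functionField a)) =
        Scheme.ord (algebraMap (X.presheaf.stalk x) X.functionField a) x := fun a ha => by
    rw [← specMap_generic h, ← CycLib.algebraMap_locQuot_mk, ord_algebraMap hx ha]
    have ha' : (Ideal.Quotient.mk (RingHom.ker (Cyc.specMap x (genericPoint X) h)) a) ≠ 0 := fun h0 =>
      ha (by rw [← locQuotEquiv_mk h a, h0, map_zero])
    refine (IntThLib.ordFrac_algebraMap ha').trans ?_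
    rw [← CycLib.ord_ringEquiv (locQuotEquiv h), locQuotEquiv_mk]
  obtain ⟨a, b, hb, hab⟩ := IsFractionRing.div_surjective (A := X.presheaf.stalk x) f
  have hb0 : b ≠ 0 := nonZeroDivisors.ne_zero hb
  have hbK : algebraMap (X.presheaf.stalk x) X.functionField b ≠ 0 :=
    (map_ne_zero_iff _ (IsFractionRing.injective _ _)).2 hb0
  have hfb : f * algebraMap (X.presheaf.stalk x) X.functionField b =
      algebraMap (X.presheaf.stalk x) X.functionField a := by rw [← hab, div_mul_cancel₀ _ hbK]
  have ha0 : a ≠ 0 := fun h0 => (mul_ne_zero hf hbK) (by rw [hfb, h0, map_zero])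
  have h1 : Cyc.ordAt x (genericPoint X) h (resG X f * resG X (algebraMap (X.presheaf.stalk x) X.functionField b)) =
      Cyc.ordAt x (genericPoint X) h (resG X f) +
        Cyc.ordAt x (genericPoint X) h (resG X (algebraMap (X.presheaf.stalk x) X.functionField b)) :=
    IntThLib.ordFrac_mul (resG_ne_zero hf) (resG_ne_zero hbK)
  rw [← map_mul, hfb, key a ha0, key b hb0, ← hfb, Scheme.ord_mul hf hbK] at h1
  linarith

lemma ord_unit {x : X} {u : X.presheaf.stalk x} (hu : IsUnit u) :
    Scheme.ord (algebraMap (X.presheaf.stalk x) X.functionField u) x = 0 := by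
  by_cases hx : Order.coheight x = 1
  · rw [ord_algebraMap hx hu.ne_zero, Ring.ord_of_isUnit hu]
    rfl
  · exact Scheme.ord_eq_zero_of_coheight_neq_one hx _

variable {L : X.Modules}

/-- The order of a rational section from a coordinate. -/
theorem secOrdAt_generic (hL : PicF.IsInvertible L) {x : X} (h : genericPoint X ⤳ x)
    (hx : Order.coheight x = 1) {t : L.presheaf.stalk x}
    (ht : Submodule.span (X.presheaf.stalk x) {t} = ⊤) {s : Cyc.secFibre L (genericPoint X)}
    {φ : X.functionField} (hφ : φ ≠ 0)
    (hs : s = φ • RatSec.cls L (genericPoint X) (L.presheaf.stalkSpecializes h t)) :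
    Cyc.secOrdAt L (genericPoint X) x h s = Scheme.ord φ x := by
  classical
  have ht' : ∃ t : L.presheaf.stalk x, Submodule.span (X.presheaf.stalk x) {t} = ⊤ := ⟨t, ht⟩
  rw [Cyc.secOrdAt, dif_pos ht']
  obtain ⟨hg, hg'⟩ := RatSec.isGen_of_span hL (Classical.choose_spec ht')
  obtain ⟨u, hu, hut⟩ := hg.of_span ht
  have hs' : s = (φ * algebraMap (X.presheaf.stalk x) X.functionField u) •
      RatSec.cls L (genericPoint X) (L.presheaf.stalkSpecializes h (Classical.choose ht')) := by
    rw [hs, mul_smul, hut, ZeroSec.stalkSpecializes_smul, RatSec.cls_smul]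
    rfl
  have hψ : ∃ ψ : X.presheaf.stalk (genericPoint X), s =
      ψ • (Submodule.Quotient.mk ((L.presheaf.stalkSpecializes h) (Classical.choose ht')) :
        Cyc.secFibre L (genericPoint X)) := ⟨_, hs'⟩
  rw [dif_pos hψ]
  have h1 := Classical.choose_spec hψ
  have h2 := resG_injective ((RatSec.cls_smul_eq_iff (hg' _ h) _ _).1 (h1.symm.trans hs'))
  have hu0 : algebraMap (X.presheaf.stalk x) X.functionField u ≠ 0 := (hu.map _).ne_zero
  refine Eq.trans (ordAt_generic h hx (f := Classical.choose hψ) ?_) ?_
  · rw [h2]; exact mul_ne_zero hφ hu0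
  · rw [h2, Scheme.ord_mul hφ hu0, ord_unit hu, add_zero]

omit [IsLocallyNoetherian X] in
/-- Rational sections have nonzero rational coordinates. -/
lemma exists_coord_generic {x : X} (h : genericPoint X ⤳ x) {t : L.presheaf.stalk x}
    (hL : PicF.IsInvertible L) (ht : Submodule.span (X.presheaf.stalk x) {t} = ⊤)
    {s : Cyc.secFibre L (genericPoint X)} (hs : s ≠ 0) :
    ∃ φ : X.functionField, φ ≠ 0 ∧
      s = φ • RatSec.cls L (genericPoint X) (L.presheaf.stalkSpecializes h t) := by
  obtain ⟨-, hg⟩ := RatSec.isGen_of_span hL ht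
  obtain ⟨φ, hφ⟩ := RatSec.exists_coord (hg _ h) s
  exact ⟨φ, fun h0 => hs (by rw [hφ, h0]; exact zero_smul _ _), hφ⟩

end Groth.Agent.Div86
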