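import Groth.Agent.AssPtX.Noeth
import Groth.Agent.Alg6.AssDepth
import Groth.Agent.ZClosLib.Basic
import Groth.Agent.QCoh.LocFree
import Groth.Prelude.Def_RefHull
import Mathlib.AlgebraicGeometry.Noetherian
import Mathlib.RingTheory.Ideal.KrullsHeightTheorem

/-!
# Isomorphisms detected outside depth two
-/

set_option autoImplicit false
set_option linter.style.haveILetI false
set_option backward.isDefEq.respectTransparency false
set_option backward.isDefEq.respectTransparency.types false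

universe u

open CategoryTheory AlgebraicGeometry TopologicalSpace IsLocalRing

namespace Groth.Agent.Div86

/-- An injection of modules bijective away from the closed point is bijective if the source has depth
two and the target no element with annihilator radical the maximal ideal. -/
theorem surjective_of_depth_two {R : Type u} [CommRing R] [IsLocalRing R] [IsNoetherianRing R]
    {M N : Type u} [AddCommGroup M] [Module R M] [Module.Finite R M] [AddCommGroup N] [Module R N]
    (φ : M →ₗ[R] N) (hinj : Function.Injective φ)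
    (hloc : ∀ P : Ideal R, P.IsPrime → P ≠ maximalIdeal R → ∀ c : N, ∃ r ∉ P, r • c ∈ LinearMap.range φ)
    (hdepth : (2 : ℕ∞) ≤ LocCoh.depth R M) (hN : maximalIdeal R ∉ associatedPrimes R N) :
    Function.Surjective φ := by
  classical
  rcases subsingleton_or_nontrivial M with hM | hM
  · intro c
    by_contra hc
    have hne : c ≠ 0 := fun h => hc ⟨0, by rw [map_zero, h]⟩
    obtain ⟨q, hq, -⟩ := Alg6.exists_ass_ge (R := R) hne
    obtain ⟨hqpr, z, hz⟩ := isAssociatedPrime_iff.1 hq
    refine hN ?_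
    by_cases hqm : q = maximalIdeal R
    · exact hqm ▸ hq
    obtain ⟨r, hr, a, ha⟩ := hloc q hqpr hqm z
    refine absurd ?_ hr
    rw [hz, Submodule.mem_colon_singleton, Submodule.mem_bot, ← ha, Subsingleton.elim a 0, map_zero]
  intro c₀
  by_contra hc₀
  let S : Set (Ideal R) := {J | ∃ c : N, c ∉ LinearMap.range φ ∧ J = (LinearMap.range φ).colon {c}}
  obtain ⟨J, ⟨c, hc, rfl⟩, hmax⟩ :=
    set_has_maximal_iff_noetherian.2 inferInstance S ⟨_, c₀, by simpa using hc₀, rfl⟩
  have hmem : ∀ (r : R) (d : N), r ∈ (LinearMap.range φ).colon {d} ↔ r • d ∈ LinearMap.range φ :=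
    fun r d => Submodule.mem_colon_singleton
  have hJ : ((LinearMap.range φ).colon {c}).IsPrime := by
    refine ⟨fun h => hc ?_, fun {x y} hxy => or_iff_not_imp_right.2 fun hy => ?_⟩
    · simpa using (hmem 1 c).1 (h ▸ Submodule.mem_top)
    · have hle : (LinearMap.range φ).colon {c} ≤ (LinearMap.range φ).colon {y • c} := fun r hr => by
        rw [hmem] at hr ⊢
        rw [smul_comm]
        exact Submodule.smul_mem _ _ hr
      have hyc : y • c ∉ LinearMap.range φ := fun h => hy ((hmem y c).2 h)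
      have heq : (LinearMap.range φ).colon {c} = (LinearMap.range φ).colon {y • c} :=
        hle.eq_of_not_lt (hmax _ ⟨y • c, hyc, rfl⟩)
      rw [heq, hmem, smul_smul]
      exact (hmem _ _).1 hxy
  have hJm : (LinearMap.range φ).colon {c} = maximalIdeal R := by
    by_contra hne
    obtain ⟨r, hr, hrc⟩ := hloc _ hJ hne c
    exact hr ((hmem r c).2 hrc)
  obtain ⟨x, hxm, hreg⟩ : ∃ x ∈ maximalIdeal R, IsSMulRegular M x :=
    (Alg6.exists_isSMulRegular_mem_iff (M := M) (maximalIdeal R)).mpr fun p hp hle => by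
      have h1 : (1 : ℕ∞) ≤ LocCoh.depth R M := le_trans (by norm_num) hdepth
      refine Alg6.one_le_depth_iff.1 h1 ?_
      rwa [(maximalIdeal.isMaximal R).eq_of_le (IsAssociatedPrime.isPrime hp).ne_top hle]
  obtain ⟨m₀, hm₀⟩ := (hmem x c).1 (hJm ▸ hxm)
  -- `m₀` is divisible by `x`
  have hdiv : ∃ m₁ : M, x • m₁ = m₀ := by
    by_contra hcon
    have hz : (Submodule.Quotient.mk m₀ : QuotSMulTop x M) ≠ 0 := fun h => by
      obtain ⟨m₁, hm₁⟩ := Alg6.mem_pointwise_smul_top_iff.1 h
      exact hcon ⟨m₁, hm₁⟩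
    refine ((Alg6.two_le_depth_iff hxm hreg).1 hdepth) (isAssociatedPrime_iff.2 ⟨inferInstance, Submodule.Quotient.mk m₀, ?_⟩)
    refine ((maximalIdeal.isMaximal R).eq_of_le (fun htop => hz ?_) fun r hr => ?_)
    · have h1 := Submodule.mem_colon_singleton.1 (htop ▸ Submodule.mem_top (x := (1 : R)))
      rwa [one_smul, Submodule.mem_bot] at h1
    · rw [Submodule.mem_colon_singleton, Submodule.mem_bot, ← Submodule.Quotient.mk_smul,
        Alg6.mem_pointwise_smul_top_iff]
      obtain ⟨m', hm'⟩ := (hmem r c).1 (hJm ▸ hr)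
      exact ⟨m', hinj (by rw [map_smul, map_smul, hm', hm₀, smul_comm])⟩
  obtain ⟨m₁, hm₁⟩ := hdiv
  have hxc : x • (c - φ m₁) = 0 := by rw [smul_sub, ← hm₀, ← map_smul, hm₁, sub_self]
  have hkill : ∀ r ∈ maximalIdeal R, r • (c - φ m₁) = 0 := fun r hr => by
    obtain ⟨m', hm'⟩ := (hmem r c).1 (hJm ▸ hr)
    have h1 : r • (c - φ m₁) = φ (m' - r • m₁) := by rw [map_sub, map_smul, smul_sub, hm']
    have h2 : x • (m' - r • m₁) = 0 := hinj (by rw [map_smul, ← h1, smul_comm, hxc, smul_zero, map_zero])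
    rw [h1, hreg (h2.trans (smul_zero x).symm), map_zero]
  refine hN (isAssociatedPrime_iff.2 ⟨inferInstance, c - φ m₁, ?_⟩)
  refine (maximalIdeal.isMaximal R).eq_of_le (fun htop => hc ?_) fun r hr => ?_
  · have h1 := Submodule.mem_colon_singleton.1 (htop ▸ Submodule.mem_top (x := (1 : R)))
    rw [one_smul, Submodule.mem_bot, sub_eq_zero] at h1
    exact ⟨m₁, h1.symm⟩
  · rw [Submodule.mem_colon_singleton, Submodule.mem_bot]
    exact hkill r hr

variable {X : Scheme.{u}} [IsLocallyNoetherian X]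

theorem isIso_of_depth_two {F G : X.Modules} (φ : F ⟶ G) (hF : Coh.IsCoh F) (hG : Coh.IsQCoh G)
    (h : ∀ x : X, Function.Bijective
        ((TopCat.Presheaf.stalkFunctor AddCommGrpCat.{u} x).map (Scheme.Modules.Hom.mapPresheaf φ)) ∨
      ((2 : ℕ∞) ≤ LocCoh.depth (X.presheaf.stalk x) (F.presheaf.stalk x) ∧
        maximalIdeal (X.presheaf.stalk x) ∉ associatedPrimes (X.presheaf.stalk x) (G.presheaf.stalk x))) :
    IsIso φ := by
  have hfin : ∀ x : X, Module.Finite (X.presheaf.stalk x) (F.presheaf.stalk x) := fun x =>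
    QCoh.finite_stalk_of_isFT hF.1 (QCoh.isFT_of_isFP (QCoh.isCoh_iff_isFP.1 hF)) x
  have hX : ∀ x : X, IsNoetherianRing (X.presheaf.stalk x) := fun x => inferInstance
  have hnotass : ∀ x : X, (2 : ℕ∞) ≤ LocCoh.depth (X.presheaf.stalk x) (F.presheaf.stalk x) →
      ¬ Curv2.IsWeakAssPoint F x := fun x hd hw => by
    haveI := hfin x
    haveI := hX x
    exact Alg6.one_le_depth_iff.1 (le_trans (by norm_num) hd) (AssPtX.isAssPoint_iff.2 hw)
  haveI : Mono φ := AssPtX.mono_of_stalk φ hF.1 fun x =>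
    (h x).imp (fun hb => hb.1) fun hb => hnotass x hb.1
  have hinj : ∀ x : X, Function.Injective (RefHull.stalkMapₗ φ x) := fun x => by
    rintro a b hab
    refine sub_eq_zero.1 ?_
    obtain ⟨V, hxV, m, hm⟩ := TopCat.Presheaf.exists_germ_eq F.presheaf (x := x) (a - b)
    have h0 : G.presheaf.germ V x hxV (φ.app V m) = 0 := by
      rw [← RefHull.stalkMapₗ_germ, hm, map_sub, hab, sub_self]
    obtain ⟨W, hxW, i, j, hW⟩ := TopCat.Presheaf.germ_eq (C := AddCommGrpCat.{u}) G.presheaf x hxV hxV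
      (φ.app V m) 0 (h0.trans (map_zero _).symm)
    have h1 : φ.app W (F.presheaf.map i.op m) = φ.app W 0 := by
      rw [map_zero]
      refine (QCoh.map_app_comm φ i m).trans ?_
      exact hW.trans (map_zero _)
    rw [← hm, ← F.presheaf.germ_res_apply i x hxW m, QCoh.app_injective φ W h1, map_zero]
  -- induction over generizations inside an affine open
  suffices hsurj : ∀ x : X, Function.Surjective (RefHull.stalkMapₗ φ x) from
    ZClosLib.isIso_of_stalkMap_bijective φ fun x => ⟨hinj x, hsurj x⟩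
  intro x₀
  obtain ⟨V, hV, hxV, -⟩ := exists_isAffineOpen_mem_and_subset (x := x₀) (U := ⊤) trivial
  haveI : IsNoetherianRing Γ(X, V) := IsLocallyNoetherian.component_noetherian ⟨V, hV⟩
  suffices key : ∀ P : PrimeSpectrum Γ(X, V), ∀ (x : X) (hx : x ∈ V), hV.primeIdealOf ⟨x, hx⟩ = P →
      Function.Surjective (RefHull.stalkMapₗ φ x) from key _ x₀ hxV rfl
  haveI : WellFoundedLT (PrimeSpectrum Γ(X, V)) :=
    StrictMono.wellFoundedLT (f := fun P : PrimeSpectrum Γ(X, V) => P.asIdeal.height)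
      fun P Q hPQ => Ideal.height_strict_mono_of_isPrime_of_isPrime hPQ
  intro P
  induction P using WellFoundedLT.induction with
  | _ P ih =>
  intro x hx hP
  rcases h x with hb | ⟨hd, hass⟩
  · exact hb.2
  haveI := hfin x
  letI := QCoh.stalkAlg (X := X) hx
  haveI := QCoh.isLocalization_stalk' hV hx
  haveI : IsNoetherianRing (X.presheaf.stalk x) :=
    IsLocalization.isNoetherianRing (hV.primeIdealOf ⟨x, hx⟩).asIdeal.primeCompl _ inferInstance
  refine surjective_of_depth_two (RefHull.stalkMapₗ φ x) (hinj x) (fun Q hQ hQm c => ?_) hd hass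
  let q := Q.comap (algebraMap Γ(X, V) (X.presheaf.stalk x))
  obtain ⟨y, hy, hyq⟩ := QCoh.exists_point hV ⟨q, Ideal.comap_isPrime _ _⟩
  have hlt : hV.primeIdealOf ⟨y, hy⟩ < P := by
    rw [← hP, hyq]
    refine lt_of_le_of_ne ?_ fun heq => hQm ?_
    · show q ≤ (hV.primeIdealOf ⟨x, hx⟩).asIdeal
      rw [← IsLocalization.AtPrime.comap_maximalIdeal (X.presheaf.stalk x) (hV.primeIdealOf ⟨x, hx⟩).asIdeal]
      exact Ideal.comap_mono (le_maximalIdeal hQ.ne_top)
    · have h1 : q = (hV.primeIdealOf ⟨x, hx⟩).asIdeal := congrArg PrimeSpectrum.asIdeal heq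
      have h2 : q.map (algebraMap Γ(X, V) (X.presheaf.stalk x)) = Q :=
        IsLocalization.map_under (hV.primeIdealOf ⟨x, hx⟩).asIdeal.primeCompl _ Q
      rw [← h2, h1]
      exact IsLocalization.AtPrime.map_eq_maximalIdeal _ _
  letI := QCoh.stalkModule G hx
  haveI := QCoh.isScalarTower_stalk G hx
  haveI := QCoh.isLocalizedModule_germLin hG hV hx
  obtain ⟨⟨n, s⟩, hns⟩ := IsLocalizedModule.surj (hV.primeIdealOf ⟨x, hx⟩).asIdeal.primeCompl
    (QCoh.germLin G hx) c
  dsimp only at hns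
  obtain ⟨a, ha⟩ := ih _ hlt y hy rfl (G.presheaf.germ V y hy n)
  letI := QCoh.stalkAlg (X := X) hy
  letI := QCoh.stalkModule F hy
  haveI := QCoh.isScalarTower_stalk F hy
  haveI := QCoh.isLocalization_stalk' hV hy
  haveI := QCoh.isLocalizedModule_germLin hF.1 hV hy
  obtain ⟨⟨m, t⟩, hmt⟩ := IsLocalizedModule.surj (hV.primeIdealOf ⟨y, hy⟩).asIdeal.primeCompl
    (QCoh.germLin F hy) a
  dsimp only at hmt
  letI := QCoh.stalkModule G hy
  haveI := QCoh.isScalarTower_stalk G hy
  haveI := QCoh.isLocalizedModule_germLin hG hV hy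
  have h3 : QCoh.germLin G hy (φ.app V m) = QCoh.germLin G hy (t.1 • n) := by
    show G.presheaf.germ V y hy (φ.app V m) = G.presheaf.germ V y hy (t.1 • n)
    rw [← RefHull.stalkMapₗ_germ, QCoh.germ_smul', ← ha, ← map_smul]
    refine congrArg _ (hmt.symm.trans ?_)
    exact (algebraMap_smul (X.presheaf.stalk y) t.1 a).symm
  obtain ⟨u, hu⟩ := IsLocalizedModule.exists_of_eq
    (S := (hV.primeIdealOf ⟨y, hy⟩).asIdeal.primeCompl) h3
  have hut : u.1 * t.1 ∉ q := by
    have he : (hV.primeIdealOf ⟨y, hy⟩).asIdeal = q := congrArg PrimeSpectrum.asIdeal hyq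
    exact he ▸ (u * t).2
  refine ⟨algebraMap Γ(X, V) (X.presheaf.stalk x) (u.1 * t.1) *
    algebraMap Γ(X, V) (X.presheaf.stalk x) s.1, fun hmem => ?_, ?_⟩
  · rcases hQ.mem_or_mem hmem with h' | h'
    · exact hut h'
    · exact hQ.ne_top (Ideal.eq_top_of_isUnit_mem _ h' (IsLocalization.map_units _ s))
  · refine ⟨F.presheaf.germ V x hx (u.1 • m), ?_⟩
    rw [RefHull.stalkMapₗ_germ, Scheme.Modules.Hom.app_smul, mul_smul]
    have h4 : algebraMap Γ(X, V) (X.presheaf.stalk x) s.1 • c = G.presheaf.germ V x hx n :=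
      (algebraMap_smul (X.presheaf.stalk x) s.1 c).trans hns
    rw [h4, show u.1 • φ.app V m = u.1 • (t.1 • n) from hu, QCoh.germ_smul', QCoh.germ_smul', smul_smul,
      ← map_mul]
    rfl

end Groth.Agent.Div86
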