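import Groth.Agent.Div86.MeroInv
import Groth.Agent.QCoh.DevissageP
import Groth.Agent.ZeroSchX.Basic

/-!
# Weakly associated points: finiteness, prescribed values, extension
-/

set_option autoImplicit false
set_option linter.style.haveILetI false
set_option backward.isDefEq.respectTransparency false
set_option backward.isDefEq.respectTransparency.types false

universe u

open CategoryTheory AlgebraicGeometry TopologicalSpace

namespace Groth.Agent.Div86

variable {X : Scheme.{u}}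

/-- Every weakly associated point is generic in an irreducible component. -/
def WGen (X : Scheme.{u}) : Prop := ∀ x : X, WAss x → ∀ y : X, y ⤳ x → y = x

lemma wFin_of_isLocallyNoetherian [IsLocallyNoetherian X] : WFin X := fun W hW =>
  (AssPtX.finite_assPoints QCoh.isCoh_structureModule' hW.isCompact).subset fun _ hx =>
    ⟨hx.1, AssPtX.isAssPoint_iff.2 hx.2⟩

lemma isAssociatedPrime_iff_wAss [IsLocallyNoetherian X] (x : X) :
    IsAssociatedPrime (IsLocalRing.maximalIdeal (X.presheaf.stalk x)) (X.presheaf.stalk x) ↔ WAss x := by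
  obtain ⟨V, hV, hxV, -⟩ := exists_isAffineOpen_mem_and_subset (x := x) (U := ⊤) trivial
  letI := QCoh.stalkAlg (X := X) hxV
  haveI := QCoh.isLocalization_stalk' hV hxV
  haveI : IsLocalizedModule (hV.primeIdealOf ⟨x, hxV⟩).asIdeal.primeCompl
      (Algebra.linearMap Γ(X, V) (X.presheaf.stalk x)) := inferInstance
  have h1 := WeakAss.mem_weakAss_iff_map (hV.primeIdealOf ⟨x, hxV⟩).asIdeal.primeCompl
    (R' := X.presheaf.stalk x) (Algebra.linearMap Γ(X, V) (X.presheaf.stalk x))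
    (p := (hV.primeIdealOf ⟨x, hxV⟩).asIdeal) (Set.disjoint_left.2 fun _ h h' => h h')
  rw [IsLocalization.AtPrime.map_eq_maximalIdeal] at h1
  rw [wAss_iff hV hxV]
  refine Iff.trans ?_ h1.symm
  rw [WeakAss.mem_weakAss_iff]
  constructor
  · rintro ⟨-, m, hm⟩
    exact ⟨m, (AssPtX.radical_eq_maximalIdeal_iff _).1 (by rw [← AssPtX.colon_bot_singleton]; exact hm.symm)⟩
  · rintro ⟨m, hm⟩
    exact ⟨inferInstance, m, by
      rw [AssPtX.colon_bot_singleton]; exact ((AssPtX.radical_eq_maximalIdeal_iff _).2 hm).symm⟩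

lemma wAss_of_generic (x : X) (h : ∀ y : X, y ⤳ x → y = x) : WAss x := by
  refine AssPtX.isWeakAssPoint_of_maximal QCoh.isQCoh_structureModule ?_ fun y _ hy => h y hy
  intro hss
  obtain ⟨V, hV, hxV, -⟩ := exists_isAffineOpen_mem_and_subset (x := x) (U := ⊤) trivial
  obtain ⟨f, hf, hf'⟩ := (QCoh.subsingleton_stalk_iff QCoh.isQCoh_structureModule hV hxV).1 hss
    (show Γ(Coh.structureModule X, V) from (1 : Γ(X, V)))
  have : f = 0 := (mul_one f).symm.trans hf'
  rw [this, Scheme.basicOpen_zero] at hf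
  exact hf

lemma exists_generic_le (x : X) : ∃ z : X, z ⤳ x ∧ ∀ y : X, y ⤳ z → y = z := by
  obtain ⟨V, hV, hxV, -⟩ := exists_isAffineOpen_mem_and_subset (x := x) (U := ⊤) trivial
  obtain ⟨q, hq, hqx⟩ := Ideal.exists_minimalPrimes_le
    (bot_le : ⊥ ≤ (hV.primeIdealOf ⟨x, hxV⟩).asIdeal)
  obtain ⟨z, hz, hzq⟩ := QCoh.exists_point hV ⟨q, hq.1.1⟩
  have hzq' : (hV.primeIdealOf ⟨z, hz⟩).asIdeal = q := by rw [hzq]
  refine ⟨z, (AssPtX.primeIdealOf_le_iff hV hz hxV).1 (hzq' ▸ hqx), fun y hy => ?_⟩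
  have hyV : y ∈ V := hy.mem_open V.2 hz
  have h1 : (hV.primeIdealOf ⟨y, hyV⟩).asIdeal ≤ (hV.primeIdealOf ⟨z, hz⟩).asIdeal :=
    (AssPtX.primeIdealOf_le_iff hV hyV hz).2 hy
  have h2 := hq.2 ⟨(hV.primeIdealOf ⟨y, hyV⟩).isPrime, bot_le⟩ (hzq' ▸ h1)
  exact hy.antisymm ((AssPtX.primeIdealOf_le_iff hV hz hyV).1 (hzq' ▸ h2)) |>.eq

lemma wGen_of_noEmbedded
    (h : ∀ x : X, WAss x → ∀ y : X, WAss y → y ⤳ x → y = x) : WGen X := by
  intro x hx y hy
  obtain ⟨z, hzy, hz⟩ := exists_generic_le y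
  have : z = x := h x hx z (wAss_of_generic z hz) (hzy.trans hy)
  exact (this ▸ hz) y hy

lemma wGen_of_isReduced [IsReduced X] : WGen X := fun x hx =>
  (AssPtX.isWeakAssPoint_structureModule_iff QCoh.isQCoh_structureModule x).1 hx

lemma closure_mem_irreducibleComponents (x : X) (h : ∀ y : X, y ⤳ x → y = x) :
    closure ({x} : Set X) ∈ irreducibleComponents X := by
  refine ⟨isIrreducible_singleton.closure, fun T hT hle => ?_⟩
  have hg := hT.isGenericPoint_genericPoint_closure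
  have h1 : hT.genericPoint ⤳ x :=
    hg.specializes (subset_closure (hle (subset_closure rfl)))
  intro t ht
  have h2 : hT.genericPoint ⤳ t := hg.specializes (subset_closure ht)
  rw [h _ h1] at h2
  exact specializes_iff_mem_closure.1 h2

lemma wFin_of_locallyFinite (hgen : WGen X)
    (h : ∀ x : X, ∃ W : X.Opens, x ∈ W ∧
      {Z : Set X | Z ∈ irreducibleComponents X ∧ (Z ∩ (W : Set X)).Nonempty}.Finite) : WFin X := by
  intro V hV
  choose W hW hfin using h
  obtain ⟨S, hS⟩ := hV.isCompact.elim_finite_subcover (fun x : X => (W x : Set X)) (fun x => (W x).2)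
    (fun x _ => Set.mem_iUnion.2 ⟨x, hW x⟩)
  refine Set.Finite.of_finite_image (f := fun z => closure ({z} : Set X)) ?_
    fun a _ b _ hab => ((specializes_iff_closure_subset.2 (le_of_eq hab.symm)).antisymm
      (specializes_iff_closure_subset.2 (le_of_eq hab))).eq
  refine (S.finite_toSet.biUnion fun i _ => hfin i).subset ?_
  rintro _ ⟨z, ⟨hzV, hz⟩, rfl⟩
  obtain ⟨i, hi, hzi⟩ := Set.mem_iUnion₂.1 (hS hzV)
  exact Set.mem_iUnion₂.2 ⟨i, hi, closure_mem_irreducibleComponents z (hgen z hz),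
    ⟨z, subset_closure rfl, hzi⟩⟩

lemma wFin_of_finite_components (hgen : WGen X)
    (h : ∀ U : X.Opens, IsCompact (U : Set X) → (irreducibleComponents ↥(U : Scheme.{u})).Finite) :
    WFin X := by
  intro V hV
  haveI := (h V hV.isCompact).to_subtype
  refine Set.finite_coe_iff.1 (Finite.of_injective (fun z : {x : X | x ∈ V ∧ WAss x} =>
    (⟨closure ({(⟨z.1, z.2.1⟩ : ↥(V : Scheme.{u}))} : Set ↥(V : Scheme.{u})),
      closure_mem_irreducibleComponents _ fun y hy =>
        Subtype.ext (hgen z.1 z.2.2 y.1 (hy.map continuous_subtype_val))⟩ :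
      irreducibleComponents ↥(V : Scheme.{u}))) fun a b hab => ?_)
  have h1 : closure _ = closure _ := congrArg Subtype.val hab
  exact Subtype.ext (congrArg Subtype.val ((specializes_iff_closure_subset.2 (le_of_eq h1.symm)).antisymm
    (specializes_iff_closure_subset.2 (le_of_eq h1))).eq :)

lemma primeIdealOf_mem_minimalPrimes {V : X.Opens} (hV : IsAffineOpen V) {z : X} (hz : z ∈ V)
    (h : ∀ y : X, y ⤳ z → y = z) :
    (hV.primeIdealOf ⟨z, hz⟩).asIdeal ∈ (⊥ : Ideal Γ(X, V)).minimalPrimes := by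
  refine ⟨⟨(hV.primeIdealOf ⟨z, hz⟩).isPrime, bot_le⟩, fun q hq hle => ?_⟩
  obtain ⟨y, hy, hyq⟩ := QCoh.exists_point hV ⟨q, hq.1⟩
  have hyq' : (hV.primeIdealOf ⟨y, hy⟩).asIdeal = q := by rw [hyq]
  rw [← hyq'] at hle ⊢
  obtain rfl := h y ((AssPtX.primeIdealOf_le_iff hV hy hz).1 hle)
  exact le_rfl

lemma isNilpotent_germ_of_mem {V : X.Opens} (hV : IsAffineOpen V) {z : X} (hz : z ∈ V)
    (h : ∀ y : X, y ⤳ z → y = z) {r : Γ(X, V)} (hr : r ∈ (hV.primeIdealOf ⟨z, hz⟩).asIdeal) :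
    IsNilpotent (X.presheaf.germ V z hz r) := by
  obtain ⟨s, hs, n, hn⟩ := WeakAss.exists_mul_pow_mem (primeIdealOf_mem_minimalPrimes hV hz h) hr
  have hu : IsUnit (X.presheaf.germ V z hz s) :=
    (X.mem_basicOpen s z hz).1 ((QCoh.mem_basicOpen_iff_notMem hV hz s).2 hs)
  refine ⟨n, hu.mul_right_eq_zero.1 ?_⟩
  rw [← map_pow, ← map_mul, Ideal.mem_bot.1 hn, map_zero]

/-- Fractions with prescribed values at the (generic) weakly associated points. -/
lemma exists_frac_values {V : X.Opens} (hV : IsAffineOpen V) (hfin : {x : X | x ∈ V ∧ WAss x}.Finite)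
    (hgen : WGen X) (c : ∀ z : X, z ∈ V → WAss z → X.presheaf.stalk z) :
    ∃ (a : Γ(X, V)) (b : Mero.regSub X V), ∀ (z : X) (hz : z ∈ V) (hw : WAss z),
      X.presheaf.germ V z hz a = c z hz hw * X.presheaf.germ V z hz b.1 := by
  classical
  let T := {x : X | x ∈ V ∧ WAss x}
  haveI := hfin.to_subtype
  letI := Fintype.ofFinite T
  let P : T → Ideal Γ(X, V) := fun z => (hV.primeIdealOf ⟨z.1, z.2.1⟩).asIdeal
  have hne : ∀ i j : T, i ≠ j → ∃ e ∈ P i, e ∉ P j := fun i j hij =>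
    Set.not_subset.1 fun hle => hij (Subtype.ext
      (hgen j.1 j.2.2 i.1 ((AssPtX.primeIdealOf_le_iff hV i.2.1 j.2.1).1 hle)))
  choose! d hd hd' using hne
  -- `e j` is outside `P j` and vanishes in the other local rings
  have hex : ∀ j : T, ∃ e : Γ(X, V), e ∉ P j ∧ ∀ i : T, i ≠ j → X.presheaf.germ V i.1 i.2.1 e = 0 := by
    intro j
    have h1 : ∀ i : T, i ≠ j → ∃ n, (X.presheaf.germ V i.1 i.2.1 (d i j)) ^ n = 0 := fun i hij =>
      isNilpotent_germ_of_mem hV i.2.1 (hgen i.1 i.2.2) (hd i j hij)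
    choose! n hn using h1
    refine ⟨∏ i ∈ Finset.univ.erase j, d i j ^ n i, fun hmem => ?_, fun i hij => ?_⟩
    · haveI := (hV.primeIdealOf ⟨j.1, j.2.1⟩).isPrime
      obtain ⟨i, hi, him⟩ := Ideal.IsPrime.prod_mem_iff.1 hmem
      exact hd' i j (Finset.ne_of_mem_erase hi) (Ideal.IsPrime.mem_of_pow_mem inferInstance _ him)
    · rw [map_prod]
      exact Finset.prod_eq_zero (Finset.mem_erase.2 ⟨hij, Finset.mem_univ _⟩) (by rw [map_pow, hn i hij])
  choose e he he0 using hex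
  have hloc : ∀ j : T, ∃ (a s : Γ(X, V)), s ∉ P j ∧
      X.presheaf.germ V j.1 j.2.1 a = c j.1 j.2.1 j.2.2 * X.presheaf.germ V j.1 j.2.1 s := by
    intro j
    letI := X.presheaf.algebra_section_stalk (U := V) ⟨j.1, j.2.1⟩
    haveI := hV.isLocalization_stalk ⟨j.1, j.2.1⟩
    obtain ⟨⟨a, s⟩, has⟩ := IsLocalization.surj (hV.primeIdealOf ⟨j.1, j.2.1⟩).asIdeal.primeCompl
      (c j.1 j.2.1 j.2.2)
    exact ⟨a, s.1, s.2, has.symm⟩
  choose a s hs has using hloc
  have hsum : ∀ (f : T → Γ(X, V)) (j : T),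
      X.presheaf.germ V j.1 j.2.1 (∑ i, e i * f i) =
        X.presheaf.germ V j.1 j.2.1 (e j) * X.presheaf.germ V j.1 j.2.1 (f j) := fun f j => by
    rw [map_sum, Finset.sum_eq_single j, map_mul]
    · intro i _ hij
      rw [map_mul, he0 i j hij.symm, zero_mul]
    · exact fun h => absurd (Finset.mem_univ j) h
  have hu : ∀ (j : T) (r : Γ(X, V)), r ∉ P j → IsUnit (X.presheaf.germ V j.1 j.2.1 r) := fun j r hr =>
    (X.mem_basicOpen r j.1 j.2.1).1 ((QCoh.mem_basicOpen_iff_notMem hV j.2.1 r).2 hr)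
  refine ⟨∑ i, e i * a i, ⟨∑ i, e i * s i, mem_regSub_of_wAss _ fun y hy hw => ?_⟩, fun z hz hw => ?_⟩
  · have h1 := hsum s (⟨y, hy, hw⟩ : T)
    rw [h1]
    exact ((hu (⟨y, hy, hw⟩ : T) _ (he _)).mul (hu (⟨y, hy, hw⟩ : T) _ (hs _))).mem_nonZeroDivisors
  · rw [hsum a ⟨z, hz, hw⟩, hsum s ⟨z, hz, hw⟩, has ⟨z, hz, hw⟩]
    exact mul_left_comm _ _ _

lemma frac_val_of_germ_eq {U : X.Opens} (a : Γ(X, U)) (b : Mero.regSub X U) (z : U)
    {c : X.presheaf.stalk z.1}
    (h : X.presheaf.germ U z.1 z.2 a = c * X.presheaf.germ U z.1 z.2 b.1) :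
    (frac a b).1 z = algebraMap (X.presheaf.stalk z.1) (Mero.KStalk X z.1) c := by
  refine (IsLocalization.map_units (Mero.KStalk X z.1) (Mero.regGerm z b)).mul_right_cancel ?_
  refine (mk_mul_algebraMap (X.presheaf.germ U z.1 z.2 a) (Mero.regGerm z b)).trans ?_
  rw [h, map_mul]

/-- A regular meromorphic section exists when weakly associated points are generic and locally finite. -/
theorem hasRegularMero_of_wGen (hfin : WFin X) (hgen : WGen X) {L : X.Modules}
    (hL : PicF.IsInvertible L) : Mero.HasRegularMero L := by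
  choose U hxU e he using fun x : X => InvX.exists_frame hL x
  refine hasRegularMero_of_generators (fun z => mbase (e z) ⟨z, hxU z⟩) fun x => ?_
  obtain ⟨W, hW, hxW, hWU⟩ := exists_isAffineOpen_mem_and_subset (hxU x)
  have hWU' : W ≤ U x := hWU
  have hc : ∀ (z : X) (hz : z ∈ W), ∃ c : X.presheaf.stalk z, IsUnit c ∧
      c • L.presheaf.germ (U x) z (hWU' hz) (e x) = L.presheaf.germ (U z) z (hxU z) (e z) := fun z hz => by
    obtain ⟨c, hc⟩ := ((he x).germ_bijective (hWU' hz)).2 (L.presheaf.germ (U z) z (hxU z) (e z))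
    obtain ⟨d, hd⟩ := ((he z).germ_bijective (hxU z)).2 (L.presheaf.germ (U x) z (hWU' hz) (e x))
    dsimp only at hc hd
    refine ⟨c, IsUnit.of_mul_eq_one d (((he x).germ_bijective (hWU' hz)).1 ?_), hc⟩
    show (c * d) • _ = (1 : X.presheaf.stalk z) • _
    rw [one_smul, mul_comm, mul_smul, hc, hd]
  choose c hcu hc using hc
  obtain ⟨a, b, hab⟩ := exists_frac_values hW (hfin W hW) hgen fun z hz _ => c z hz
  have ha : a ∈ Mero.regSub X W := mem_regSub_of_wAss a fun z hz hw => by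
    rw [hab z hz hw]
    exact mul_mem (hcu z hz).mem_nonZeroDivisors (b.2 ⟨z, hz⟩)
  refine ⟨W, hxW, AModX.res L hWU' (e x), (he x).res _, frac a b,
    isUnit_of_mul_isUnit_left (y := Mero.toK X W b.1) ((frac_mul a b).symm ▸ isUnit_toK ⟨a, ha⟩),
    fun z hz => ?_⟩
  rw [frac_val_of_germ_eq a b z (hab z.1 z.2 hz), mbase_res]
  exact mbase_eq_smul (hWU' z.2) (hxU z.1) (hc z.1 z.2)

lemma regSub_of_notMem {V : X.Opens} (hV : IsAffineOpen V) (f : Γ(X, V))
    (h : ∀ (y : X) (hy : y ∈ V), WAss y → f ∉ (hV.primeIdealOf ⟨y, hy⟩).asIdeal) :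
    f ∈ Mero.regSub X V :=
  mem_regSub_of_wAss f fun y hy hw => (germ_nzd_iff_notMem hV hy hw f).2 (h y hy hw)

lemma notMem_of_germ_nzd {V : X.Opens} (hV : IsAffineOpen V) {x z : X} (hx : x ∈ V) (hz : z ∈ V)
    (hzx : z ⤳ x) (hw : WAss z) {f : Γ(X, V)}
    (hf : X.presheaf.germ V x hx f ∈ nonZeroDivisors (X.presheaf.stalk x)) :
    f ∉ (hV.primeIdealOf ⟨z, hz⟩).asIdeal := by
  intro hfz
  letI := X.presheaf.algebra_section_stalk (U := V) ⟨x, hx⟩
  haveI := hV.isLocalization_stalk ⟨x, hx⟩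
  have hpr := (hV.primeIdealOf ⟨z, hz⟩).isPrime
  obtain ⟨m, hm⟩ := (wAss_iff hV hz).1 hw
  obtain ⟨s, hs, n, hn⟩ := WeakAss.exists_mul_pow_mem hm hfz
  have h0 : X.presheaf.germ V x hx (s * f ^ n * m) = 0 :=
    (congrArg (X.presheaf.germ V x hx) (WeakAss.mem_annEl.1 hn)).trans (map_zero _)
  rw [mul_right_comm, map_mul _ _ (f ^ n), map_pow] at h0
  have h1 := mem_nonZeroDivisors_iff_right.1 (pow_mem hf n) _ h0
  obtain ⟨t, ht⟩ := (IsLocalization.map_eq_zero_iff (hV.primeIdealOf ⟨x, hx⟩).asIdeal.primeCompl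
    (X.presheaf.stalk x) (s * m)).1 h1
  have ht' : t.1 * s ∈ (hV.primeIdealOf ⟨z, hz⟩).asIdeal :=
    hm.1.2 (WeakAss.mem_annEl.2 ((mul_assoc _ _ _).trans ht))
  exact (hpr.mem_or_mem ht').elim (fun h => t.2 ((AssPtX.primeIdealOf_le_iff hV hz hx).2 hzx h)) hs

lemma regStalk_eq_of_wFin (hfin : WFin X) (x : X) :
    Mero.regStalk X x = nonZeroDivisors (X.presheaf.stalk x) := by
  classical
  refine le_antisymm (Mero.regStalk_le_nonZeroDivisors x) fun g hg => ?_
  obtain ⟨V, hV, hxV, -⟩ := exists_isAffineOpen_mem_and_subset (x := x) (U := ⊤) trivial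
  letI := X.presheaf.algebra_section_stalk (U := V) ⟨x, hxV⟩
  haveI := hV.isLocalization_stalk ⟨x, hxV⟩
  obtain ⟨⟨f, s⟩, hfs⟩ := IsLocalization.surj (hV.primeIdealOf ⟨x, hxV⟩).asIdeal.primeCompl g
  have hsu : IsUnit (X.presheaf.germ V x hxV s.1) := IsLocalization.map_units (X.presheaf.stalk x) s
  have hf : X.presheaf.germ V x hxV f ∈ nonZeroDivisors (X.presheaf.stalk x) := by
    have h1 : X.presheaf.germ V x hxV f = g * X.presheaf.germ V x hxV s.1 := hfs.symm
    rw [h1]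
    exact mul_mem hg hsu.mem_nonZeroDivisors
  let T := {z : X | z ∈ V ∧ WAss z ∧ ¬ z ⤳ x}
  have hT : T.Finite := (hfin V hV).subset fun z hz => ⟨hz.1, hz.2.1⟩
  let O : Set X := (V : Set X) ∩ ((⋃ z ∈ T, closure ({z} : Set X))ᶜ ∩ (X.basicOpen s.1 : Set X))
  have hO : IsOpen O := V.2.inter ((hT.isClosed_biUnion fun _ _ => isClosed_closure).isOpen_compl.inter
    (X.basicOpen s.1).2)
  have hxO : x ∈ O := ⟨hxV, fun h => by
    obtain ⟨z, hz, hzx⟩ := Set.mem_iUnion₂.1 h
    exact hz.2.2 (specializes_iff_mem_closure.2 hzx), (X.mem_basicOpen s.1 x hxV).2 hsu⟩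
  obtain ⟨W, hW, hxW, hWO⟩ := exists_isAffineOpen_mem_and_subset (U := ⟨O, hO⟩) hxO
  have hWV : W ≤ V := fun y hy => (hWO hy).1
  have hu : IsUnit (X.presheaf.map (homOfLE hWV).op s.1) :=
    X.toRingedSpace.isUnit_of_isUnit_germ _ _ fun y hy => by
      have h1 : IsUnit (X.presheaf.germ V y (hWV hy) s.1) := (X.mem_basicOpen s.1 y (hWV hy)).1 (hWO hy).2.2
      rwa [← X.presheaf.germ_res_apply (homOfLE hWV) y hy] at h1
  refine ⟨W, hxW, X.presheaf.map (homOfLE hWV).op f * hu.unit⁻¹.1,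
    mem_regSub_of_wAss _ fun y hy hw => ?_, ?_⟩
  · rw [map_mul, X.presheaf.germ_res_apply]
    refine mul_mem ((germ_nzd_iff_notMem hV (hWV hy) hw f).2 ?_)
      ((hu.unit⁻¹).isUnit.map _).mem_nonZeroDivisors
    refine notMem_of_germ_nzd hV hxV (hWV hy) ?_ hw hf
    by_contra hyx
    exact (hWO hy).2.1 (Set.mem_iUnion₂.2 ⟨y, ⟨hWV hy, hw, hyx⟩, subset_closure rfl⟩)
  · refine hsu.mul_right_cancel (Eq.trans ?_ hfs.symm)
    rw [map_mul, X.presheaf.germ_res_apply, mul_assoc,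
      ← X.presheaf.germ_res_apply (homOfLE hWV) x hxW s.1, ← map_mul, IsUnit.val_inv_mul, map_one,
      mul_one]
    rfl

lemma mem_of_schematicallyDense (hfin : WFin X) {U V : X.Opens}
    (hV : ∀ W : X.Opens, W ≤ U →
      Function.Injective ⇑(X.presheaf.map (homOfLE (inf_le_left : W ⊓ V ≤ W)).op))
    {y : X} (hy : y ∈ U) (hw : WAss y) : y ∈ V := by
  classical
  by_contra hyV
  obtain ⟨W, hW, hyW, hWU⟩ := exists_isAffineOpen_mem_and_subset hy
  obtain ⟨m, hm⟩ := (wAss_iff hW hyW).1 hw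
  let T := {z : X | z ∈ W ∧ WAss z ∧ ¬ z ⤳ y}
  have hT : T.Finite := (hfin W hW).subset fun z hz => ⟨hz.1, hz.2.1⟩
  let O : Set X := (W : Set X) ∩ ((⋃ z ∈ T, closure ({z} : Set X))ᶜ)
  have hyO : y ∈ O := ⟨hyW, fun h => by
    obtain ⟨z, hz, hzy⟩ := Set.mem_iUnion₂.1 h
    exact hz.2.2 (specializes_iff_mem_closure.2 hzy)⟩
  obtain ⟨W', hW', hyW', hW'O⟩ := exists_isAffineOpen_mem_and_subset
    (U := (⟨O, W.2.inter (hT.isClosed_biUnion fun _ _ => isClosed_closure).isOpen_compl⟩ : X.Opens)) hyO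
  have hle : W' ≤ W := fun z hz => (hW'O hz).1
  let m' : Γ(X, W') := X.presheaf.map (homOfLE hle).op m
  have hzero : m' = 0 := by
    refine hV W' (fun z hz => hWU (hle hz)) (Eq.trans ?_ (map_zero _).symm)
    refine fn_ext_wAss _ 0 fun z hz hwz => ?_
    rw [map_zero, X.presheaf.germ_res_apply, X.presheaf.germ_res_apply]
    have hzW : z ∈ W := hle hz.1
    by_contra hne
    have hann : WeakAss.annEl Γ(X, W) m ≤ (hW.primeIdealOf ⟨z, hzW⟩).asIdeal := fun r hr => by
      by_contra hr'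
      refine hne (((X.mem_basicOpen r z hzW).1
        ((QCoh.mem_basicOpen_iff_notMem hW hzW r).2 hr')).mul_right_eq_zero.1 ?_)
      refine (map_mul _ r m).symm.trans ?_
      exact (congrArg _ (WeakAss.mem_annEl.1 hr)).trans (map_zero _)
    obtain ⟨Q, hQ, hQz⟩ := Ideal.exists_minimalPrimes_le hann
    obtain ⟨w, hwW, hwQ, hww⟩ := AssPtX.exists_isWeakAssPoint (F := Coh.structureModule X)
      QCoh.isQCoh_structureModule hW (p := Q) (WeakAss.mem_weakAss_iff.2 ⟨m, hQ⟩)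
    have hwz' : w ⤳ z := (AssPtX.primeIdealOf_le_iff hW hwW hzW).1 (hwQ ▸ hQz)
    refine (hW'O hz.1).2 (Set.mem_iUnion₂.2 ⟨w, ⟨hwW, hww, fun hwy => hyV ?_⟩,
      specializes_iff_mem_closure.1 hwz'⟩)
    have h1 := (AssPtX.primeIdealOf_le_iff hW hwW hyW).2 hwy
    have h2 : (hW.primeIdealOf ⟨y, hyW⟩).asIdeal ≤ (hW.primeIdealOf ⟨w, hwW⟩).asIdeal := by
      rw [hwQ] at h1 ⊢
      exact hm.2 hQ.1 h1
    exact (((AssPtX.primeIdealOf_le_iff hW hyW hwW).1 h2).trans hwz').mem_open V.2 hz.2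
  letI := X.presheaf.algebra_section_stalk (U := W) ⟨y, hyW⟩
  haveI := hW.isLocalization_stalk ⟨y, hyW⟩
  have h0 : X.presheaf.germ W y hyW m = 0 := by
    rw [← X.presheaf.germ_res_apply (homOfLE hle) y hyW']
    exact (congrArg _ hzero).trans (map_zero _)
  obtain ⟨t, ht⟩ := (IsLocalization.map_eq_zero_iff (hW.primeIdealOf ⟨y, hyW⟩).asIdeal.primeCompl
    (X.presheaf.stalk y) m).1 h0
  exact t.2 (hm.1.2 (WeakAss.mem_annEl.2 ht))

/-- A function on an open containing the weakly associated points extends to a meromorphic function. -/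
lemma exists_extend_affine {W V : X.Opens} (hW : IsAffineOpen W)
    (hfin : {x : X | x ∈ W ∧ WAss x}.Finite) (hVW : ∀ y : X, y ∈ W → WAss y → y ∈ V) (g : Γ(X, V)) :
    ∃ (a : Γ(X, W)) (b : Mero.regSub X W), ∀ (y : X) (hyW : y ∈ W) (hyV : y ∈ V), WAss y →
      X.presheaf.germ W y hyW a = X.presheaf.germ V y hyV g * X.presheaf.germ W y hyW b.1 := by
  let I : Ideal Γ(X, W) :=
    { carrier := {r | X.basicOpen r ≤ V}
      zero_mem' := by
        show X.basicOpen _ ≤ V
        rw [Scheme.basicOpen_zero]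
        exact bot_le
      add_mem' := fun {r r'} hr hr' x hx => by
        have hxW : x ∈ W := X.basicOpen_le _ hx
        have hu : IsUnit (X.presheaf.germ W x hxW r + X.presheaf.germ W x hxW r') := by
          rw [← map_add]; exact (X.mem_basicOpen _ x hxW).1 hx
        rcases IsLocalRing.isUnit_or_isUnit_of_isUnit_add hu with h | h
        · exact hr ((X.mem_basicOpen r x hxW).2 h)
        · exact hr' ((X.mem_basicOpen r' x hxW).2 h)
      smul_mem' := fun c {r} hr x hx => hr (by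
        rw [smul_eq_mul, Scheme.basicOpen_mul] at hx; exact hx.2) }
  obtain ⟨f, hf, hfn⟩ := exists_mem_notMem_wAss hW hfin I fun y hy hw => by
    obtain ⟨r, hrV, hyr⟩ := hW.exists_basicOpen_le (V := V) ⟨y, hVW y hy hw⟩ hy
    exact ⟨r, hrV, (QCoh.mem_basicOpen_iff_notMem hW hy r).1 hyr⟩
  haveI := hW.isLocalization_basicOpen f
  obtain ⟨⟨a, ⟨_, n, rfl⟩⟩, ha⟩ := IsLocalization.surj (Submonoid.powers f)
    (X.presheaf.map (homOfLE (hf : X.basicOpen f ≤ V)).op g : Γ(X, X.basicOpen f))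
  refine ⟨a, ⟨f ^ n, pow_mem (regSub_of_notMem hW f hfn) n⟩, fun y hyW hyV hw => ?_⟩
  have hyf : y ∈ X.basicOpen f := (QCoh.mem_basicOpen_iff_notMem hW hyW f).2 (hfn y hyW hw)
  have h1 := congrArg (X.presheaf.germ (X.basicOpen f) y hyf) ha
  rw [map_mul, X.presheaf.germ_res_apply] at h1
  have e : ∀ r : Γ(X, W), X.presheaf.germ _ y hyf (algebraMap Γ(X, W) Γ(X, X.basicOpen f) r) =
      X.presheaf.germ W y hyW r := fun r => X.presheaf.germ_res_apply _ y hyf r
  erw [e, e] at h1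
  exact h1.symm

/-- A function on a schematically dense open extends to a meromorphic function. -/
theorem exists_extend (hfin : WFin X) {U V : X.Opens} (hVU : V ≤ U)
    (hV : ∀ y : X, y ∈ U → WAss y → y ∈ V) (g : Γ(X, V)) :
    ∃ s : Γ(Mero.kmod X, U), (Mero.kmod X).presheaf.map (homOfLE hVU).op s = Mero.toK X V g := by
  classical
  let v : ∀ y : U, Mero.KStalk X y.1 := fun y =>
    if h : y.1 ∈ V then (Mero.toK X V g).1 ⟨y.1, h⟩ else 0
  obtain ⟨s, hs⟩ := exists_glue v fun x => by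
    obtain ⟨W, hW, hxW, hWU⟩ := exists_isAffineOpen_mem_and_subset x.2
    obtain ⟨a, b, hab⟩ := exists_extend_affine hW (hfin W hW) (fun y hy hw => hV y (hWU hy) hw) g
    refine ⟨W, hWU, hxW, frac a b, fun y hy => ?_⟩
    have hyV : y.1 ∈ V := hV y.1 (hWU y.2) hy
    rw [frac_val_of_germ_eq a b y (hab y.1 y.2 hyV hy)]
    simp only [v, dif_pos hyV, toK_val]
  refine ⟨s, kmod_ext_wAss _ _ fun y hy => ?_⟩
  exact (hs ⟨y.1, hVU y.2⟩ hy).trans (dif_pos y.2)

/-- A section generating an invertible module at finitely many points of an affine open. -/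
lemma exists_generator {L : X.Modules} (hL : PicF.IsInvertible L) {W : X.Opens} (hW : IsAffineOpen W)
    (T : Finset W) :
    ∃ l : Γ(L, W), ∀ z ∈ T, Function.Bijective
      (fun c : X.presheaf.stalk z.1 => c • L.presheaf.germ W z.1 z.2 l) := by
  letI := Classical.decEq W
  choose U hxU e he using fun x : X => InvX.exists_frame hL x
  have hq : Coh.IsQCoh L := ZeroSchX.isQCoh_inv hL
  have hcrit : ∀ (z : W) (l : Γ(L, W)) (c : X.presheaf.stalk z.1),
      c • L.presheaf.germ (U z.1) z.1 (hxU z.1) (e z.1) = L.presheaf.germ W z.1 z.2 l → IsUnit c →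
      Function.Bijective fun d : X.presheaf.stalk z.1 => d • L.presheaf.germ W z.1 z.2 l := by
    intro z l c hcl hc
    obtain ⟨v, rfl⟩ := hc
    rw [← hcl]
    simp only [smul_smul]
    exact ((he z.1).germ_bijective (hxU z.1)).comp (Units.mulRight v).bijective
  have hone : ∀ z : W, ∃ l : Γ(L, W), Function.Bijective
      fun c : X.presheaf.stalk z.1 => c • L.presheaf.germ W z.1 z.2 l := by
    intro z
    letI := QCoh.stalkAlg (X := X) z.2
    letI := QCoh.stalkModule L z.2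
    haveI := QCoh.isScalarTower_stalk L z.2
    haveI := QCoh.isLocalization_stalk' hW z.2
    haveI := QCoh.isLocalizedModule_germLin hq hW z.2
    obtain ⟨⟨l, t⟩, hlt⟩ := IsLocalizedModule.surj (hW.primeIdealOf z).asIdeal.primeCompl
      (QCoh.germLin L z.2) (L.presheaf.germ (U z.1) z.1 (hxU z.1) (e z.1))
    refine ⟨l, hcrit z l (algebraMap Γ(X, W) (X.presheaf.stalk z.1) t.1) ?_
      (IsLocalization.map_units _ t)⟩
    rw [algebraMap_smul]
    exact hlt
  choose lg hlg using hone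
  induction T using Finset.strongInduction with
  | _ T ih =>
    rcases T.eq_empty_or_nonempty with rfl | hne
    · exact ⟨0, fun z hz => absurd hz (Finset.notMem_empty z)⟩
    obtain ⟨p, hp, hpmin⟩ :=
      Finset.exists_minimalFor (fun z : W => (hW.primeIdealOf z).asIdeal) T hne
    obtain ⟨l, hl⟩ := ih (T.erase p) (Finset.erase_ssubset hp)
    obtain ⟨cp, hcp⟩ := (hlg p).2 (L.presheaf.germ W p.1 p.2 l)
    dsimp only at hcp
    by_cases hcu : IsUnit cp
    · refine ⟨l, fun z hz => ?_⟩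
      rcases eq_or_ne z p with rfl | hzp
      · obtain ⟨v, rfl⟩ := hcu
        rw [← hcp]
        simp only [smul_smul]
        exact (hlg z).comp (Units.mulRight v).bijective
      · exact hl z (Finset.mem_erase.2 ⟨hzp, hz⟩)
    have hr : ∀ q ∈ T.erase p, ∃ r ∈ (hW.primeIdealOf q).asIdeal, r ∉ (hW.primeIdealOf p).asIdeal := by
      intro q hq
      refine Set.not_subset.1 fun hle => ?_
      have heq := le_antisymm hle (hpmin (Finset.mem_of_mem_erase hq) hle)
      refine Finset.ne_of_mem_erase hq (Subtype.ext ?_)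
      exact (((AssPtX.primeIdealOf_le_iff hW q.2 p.2).1 heq.le).antisymm
        ((AssPtX.primeIdealOf_le_iff hW p.2 q.2).1 heq.ge)).eq
    choose! r hrq hrp using hr
    let R := ∏ q ∈ T.erase p, r q
    have hRp : IsUnit (X.presheaf.germ W p.1 p.2 R) :=
      (X.mem_basicOpen R p.1 p.2).1 ((QCoh.mem_basicOpen_iff_notMem hW p.2 R).2 fun hmem => by
        haveI := (hW.primeIdealOf p).isPrime
        obtain ⟨q, hq, hqm⟩ := Ideal.IsPrime.prod_mem_iff.1 hmem
        exact hrp q hq hqm)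
    refine ⟨l + R • lg p, fun z hz => ?_⟩
    rcases eq_or_ne z p with rfl | hzp
    · have hu : IsUnit (cp + X.presheaf.germ W z.1 z.2 R) := by
        by_contra hn
        have : IsUnit (cp + X.presheaf.germ W z.1 z.2 R + -cp) := by
          rwa [add_neg_cancel_comm]
        rcases IsLocalRing.isUnit_or_isUnit_of_isUnit_add this with h | h
        · exact hn h
        · exact hcu ((IsUnit.neg_iff cp).1 h)
      obtain ⟨v, hv⟩ := hu
      rw [map_add, QCoh.germ_smul', ← hcp, ← add_smul, ← hv]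
      simp only [smul_smul]
      exact (hlg z).comp (Units.mulRight v).bijective
    · have hzT := Finset.mem_erase.2 ⟨hzp, hz⟩
      obtain ⟨c, hc⟩ := (hl z hzT).2 (L.presheaf.germ W z.1 z.2 (lg p))
      dsimp only at hc
      have hRz : ¬ IsUnit (X.presheaf.germ W z.1 z.2 R) := fun h =>
        (QCoh.mem_basicOpen_iff_notMem hW z.2 R).1 ((X.mem_basicOpen R z.1 z.2).2 h)
          (Ideal.prod_mem _ hzT (hrq z hzT))
      have hu : IsUnit (1 + X.presheaf.germ W z.1 z.2 R * c) := by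
        have h1 : IsUnit ((1 : X.presheaf.stalk z.1) + X.presheaf.germ W z.1 z.2 R * c +
            -(X.presheaf.germ W z.1 z.2 R * c)) := by rw [add_neg_cancel_right]; exact isUnit_one
        rcases IsLocalRing.isUnit_or_isUnit_of_isUnit_add h1 with h | h
        · exact h
        · exact absurd (isUnit_of_mul_isUnit_left (IsUnit.neg_iff _ |>.1 h)) hRz
      obtain ⟨v, hv⟩ := hu
      rw [map_add, QCoh.germ_smul', ← hc, smul_smul]
      nth_rw 1 [← one_smul (X.presheaf.stalk z.1) (L.presheaf.germ W z.1 z.2 l)]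
      rw [← add_smul, ← hv]
      simp only [smul_smul]
      exact (hl z hzT).comp (Units.mulRight v).bijective

/-- A regular meromorphic section exists when the weakly associated points lie in an affine open. -/
theorem hasRegularMero_of_wAss_subset_affine (hfin : WFin X) {W₀ : X.Opens} (hW₀ : IsAffineOpen W₀)
    (h : ∀ x : X, WAss x → x ∈ W₀) {L : X.Modules} (hL : PicF.IsInvertible L) :
    Mero.HasRegularMero L := by
  classical
  haveI := (hfin W₀ hW₀).to_subtype
  letI := Fintype.ofFinite {x : X | x ∈ W₀ ∧ WAss x}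
  obtain ⟨l, hl⟩ := exists_generator hL hW₀
    (Finset.univ.image fun z : {x : X | x ∈ W₀ ∧ WAss x} => (⟨z.1, z.2.1⟩ : W₀))
  refine hasRegularMero_of_generators
    (fun z => if hz : z ∈ W₀ then mbase l ⟨z, hz⟩ else 0) fun x => ?_
  obtain ⟨U, hxU, e, he⟩ := InvX.exists_frame hL x
  obtain ⟨W, hW, hxW, hWU⟩ := exists_isAffineOpen_mem_and_subset hxU
  have hWU' : W ≤ U := hWU
  obtain ⟨g, hg⟩ := ((he.res hWU').exists_coord (inf_le_left : W ⊓ W₀ ≤ W)
    (AModX.res L (inf_le_right : W ⊓ W₀ ≤ W₀) l))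
  obtain ⟨a, b, hab⟩ := exists_extend_affine (V := W ⊓ W₀) hW (hfin W hW)
    (fun y hy hw => ⟨hy, h y hw⟩) g
  have key : ∀ (z : X) (hz : z ∈ W) (hz₀ : z ∈ W₀), L.presheaf.germ W₀ z hz₀ l =
      X.presheaf.germ (W ⊓ W₀) z ⟨hz, hz₀⟩ g • L.presheaf.germ W z hz (AModX.res L hWU' e) := fun z hz hz₀ => by
    have h1 := congrArg (L.presheaf.germ (W ⊓ W₀) z ⟨hz, hz₀⟩) hg
    rwa [InvX.germ_res', QCoh.germ_smul', InvX.germ_res'] at h1
  have ha : a ∈ Mero.regSub X W := mem_regSub_of_wAss a fun z hz hw => by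
    rw [hab z hz ⟨hz, h z hw⟩ hw]
    refine mul_mem (IsUnit.mem_nonZeroDivisors ?_) (b.2 ⟨z, hz⟩)
    have hb := hl ⟨z, h z hw⟩ (Finset.mem_image.2 ⟨⟨z, h z hw, hw⟩, Finset.mem_univ _, rfl⟩)
    obtain ⟨d, hd⟩ := hb.2 (L.presheaf.germ W z hz (AModX.res L hWU' e))
    dsimp only at hd
    rw [key z hz (h z hw), smul_smul] at hd
    refine IsUnit.of_mul_eq_one d (((he.res hWU').germ_bijective hz).1 ?_)
    show (_ * d) • _ = (1 : X.presheaf.stalk z) • _
    rw [one_smul, mul_comm]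
    exact hd
  refine ⟨W, hxW, AModX.res L hWU' e, he.res _, frac a b,
    isUnit_of_mul_isUnit_left (y := Mero.toK X W b.1) ((frac_mul a b).symm ▸ isUnit_toK ⟨a, ha⟩),
    fun z hz => ?_⟩
  rw [frac_val_of_germ_eq a b z (hab z.1 z.2 ⟨z.2, h z.1 hz⟩ hz)]
  show dite _ _ _ = _
  rw [dif_pos (h z.1 hz)]
  exact mbase_eq_smul z.2 (h z.1 hz) (key z.1 z.2 (h z.1 hz)).symm

end Groth.Agent.Div86
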