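import Groth.Agent.MeroDepth.Basic
import Groth.Agent.Div86.MeroGen

/-!
# Depth-one points and embedded points
-/

set_option autoImplicit false
set_option linter.style.haveILetI false
universe u

open CategoryTheory AlgebraicGeometry TopologicalSpace IsLocalRing
open Groth.Agent.MeroDepth

namespace Groth.Agent.Div86

variable {X : Scheme.{u}} [IsLocallyNoetherian X]

/-- A unit meromorphic function not regular at `x` is not regular at some depth-one generization. -/
theorem exists_depth_one_generization {U : X.Opens} (f : (Γ(Mero.kmod X, U))ˣ) (x : U)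
    (hf : ¬ Reg x.1 (Mero.evalK X U x f.val)) :
    ∃ y : U, y.1 ⤳ x.1 ∧ LocCoh.depth (X.presheaf.stalk y.1) (X.presheaf.stalk y.1) = 1 ∧
      ¬ Reg y.1 (Mero.evalK X U y f.val) := by
  obtain ⟨W, hxW, i, a₀, b₀, hab⟩ := f.val.2 x
  obtain ⟨V, hV, hxV, hVW⟩ := exists_isAffineOpen_mem_and_subset (X := X) (x := x.1) (U := W) hxW
  haveI : IsNoetherianRing Γ(X, V) := IsLocallyNoetherian.component_noetherian ⟨V, hV⟩
  replace hVW : V ≤ W := hVW
  let a : Γ(X, V) := X.presheaf.map (homOfLE hVW).op a₀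
  let b : Γ(X, V) := X.presheaf.map (homOfLE hVW).op b₀.1
  have hb : b ∈ nonZeroDivisors Γ(X, V) :=
    MeroX.regSub_eq_nonZeroDivisors hV ▸ Mero.regSub_res _ b₀.2
  have hreg : ∀ (y : X) (hy : y ∈ V), Reg y (Mero.evalK X U ⟨y, i.le (hVW hy)⟩ f.val) ↔
      ∃ c ∉ (hV.primeIdealOf ⟨y, hy⟩).asIdeal, b ∣ c * a := by
    intro y hy
    letI := X.presheaf.algebra_section_stalk (U := V) ⟨y, hy⟩
    haveI := hV.isLocalization_stalk ⟨y, hy⟩
    refine Iff.trans ?_ (algebraMap_dvd_iff (hV.primeIdealOf ⟨y, hy⟩).asIdeal.primeCompl (X.presheaf.stalk y) a b)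
    have hval : Mero.evalK X U ⟨y, i.le (hVW hy)⟩ f.val =
        LocalizedModule.mk (X.presheaf.germ W y (hVW hy) a₀) (Mero.regGerm ⟨y, hVW hy⟩ b₀) :=
      hab ⟨y, hVW hy⟩
    have ea : algebraMap Γ(X, V) (X.presheaf.stalk y) a = X.presheaf.germ W y (hVW hy) a₀ :=
      TopCat.Presheaf.germ_res_apply X.presheaf (homOfLE hVW) y hy a₀
    have eb : algebraMap Γ(X, V) (X.presheaf.stalk y) b = X.presheaf.germ W y (hVW hy) b₀.1 :=
      TopCat.Presheaf.germ_res_apply X.presheaf (homOfLE hVW) y hy b₀.1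
    rw [ea, eb]
    constructor
    · rintro ⟨s, hs⟩
      refine ⟨s, Mero.algebraMap_KStalk_injective y ?_⟩
      rw [map_mul, hs, hval]
      change _ = (LocalizedModule.mk (X.presheaf.germ W y (hVW hy) b₀.1) 1 : Mero.KStalk X y) * _
      refine Eq.trans ?_ LocalizedModule.mk_mul_mk.symm
      change (LocalizedModule.mk (X.presheaf.germ W y (hVW hy) a₀) 1 : Mero.KStalk X y) = _
      exact LocalizedModule.mk_eq.2 ⟨1, by simp [Submonoid.smul_def, mul_comm]⟩
    · rintro ⟨s, hs⟩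
      refine ⟨s, ?_⟩
      rw [hval]
      change (LocalizedModule.mk s 1 : Mero.KStalk X y) = _
      exact LocalizedModule.mk_eq.2 ⟨1, by simp [Submonoid.smul_def, hs, mul_comm]⟩
  have hf' : ∀ c : Γ(X, V), c ∉ (hV.primeIdealOf ⟨x.1, hxV⟩).asIdeal → ¬ b ∣ c * a :=
    fun c hc h => hf ((hreg x.1 hxV).mpr ⟨c, hc, h⟩)
  obtain ⟨q, hqp, hdepth, hq⟩ := exists_depth_one_prime _ a b hb hf'
  have hyV : hV.fromSpec q ∈ V := by
    rw [← SetLike.mem_coe, ← hV.range_fromSpec]
    exact Set.mem_range_self q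
  haveI := hV.isOpenImmersion_fromSpec
  have hq' : hV.primeIdealOf ⟨hV.fromSpec q, hyV⟩ = q :=
    hV.fromSpec.isOpenEmbedding.injective (hV.fromSpec_primeIdealOf _)
  letI := X.presheaf.algebra_section_stalk (U := V) ⟨hV.fromSpec q, hyV⟩
  haveI : IsLocalization.AtPrime (X.presheaf.stalk (hV.fromSpec q)) q.asIdeal := by
    have := hV.isLocalization_stalk ⟨hV.fromSpec q, hyV⟩
    rwa [hq'] at this
  refine ⟨⟨hV.fromSpec q, i.le (hVW hyV)⟩,
    (AssPtX.primeIdealOf_le_iff hV hyV hxV).1 (hq'.symm ▸ hqp), ?_, fun h => ?_⟩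
  · exact (Alg6.depth_localized_eq q.asIdeal _
      (Algebra.linearMap Γ(X, V) (X.presheaf.stalk (hV.fromSpec q)))).trans hdepth
  · obtain ⟨c, hc, hcd⟩ := (hreg _ hyV).mp h
    rw [hq'] at hc
    exact hq c hc hcd

/-- A maximal point of the support of a divisor has depth one. -/
theorem depth_eq_one_of_maximal (D : Mero.Divisor X) (x : X) (hx : x ∈ Mero.supp D)
    (hmax : ∀ z : X, z ∈ Mero.supp D → z ⤳ x → z = x) :
    LocCoh.depth (X.presheaf.stalk x) (X.presheaf.stalk x) = 1 := by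
  obtain ⟨U, hxU, f, hU⟩ := D.2 x
  have key : ∀ g : (Γ(Mero.kmod X, U))ˣ,
      (∀ y : U, D.1 y.1 = 1 → Reg y.1 (Mero.evalK X U y g.val)) →
      ¬ Reg x (Mero.evalK X U ⟨x, hxU⟩ g.val) →
      LocCoh.depth (X.presheaf.stalk x) (X.presheaf.stalk x) = 1 := by
    intro g hg hnot
    obtain ⟨y, hyx, hd, hy⟩ := exists_depth_one_generization g ⟨x, hxU⟩ hnot
    obtain rfl : y.1 = x := hmax y.1 (fun h => hy (hg y h)) hyx
    exact hd
  have h1 : ¬ ((Reg x (Mero.evalK X U ⟨x, hxU⟩ f.val)) ∧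
      Reg x (Mero.evalK X U ⟨x, hxU⟩ (f⁻¹ : (Γ(Mero.kmod X, U))ˣ).val)) := fun h => by
    refine hx ((hU ⟨x, hxU⟩).trans ((mk_eq_one_iff x _).2 ⟨h.1, ?_⟩))
    rw [← map_inv]
    exact h.2
  have h2 : ∀ y : U, D.1 y.1 = 1 → Reg y.1 (Mero.evalK X U y f.val) ∧
      Reg y.1 (Mero.evalK X U y (f⁻¹ : (Γ(Mero.kmod X, U))ˣ).val) := fun y hy => by
    have := (mk_eq_one_iff y.1 _).1 ((hU y).symm.trans hy)
    rw [← map_inv] at this
    exact this
  by_cases h : Reg x (Mero.evalK X U ⟨x, hxU⟩ f.val)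
  · exact key f⁻¹ (fun y hy => (h2 y hy).2) fun h' => h1 ⟨h, h'⟩
  · exact key f (fun y hy => (h2 y hy).1) h

omit [IsLocallyNoetherian X] in
/-- A point of the support in the support of a module over the local ring comes from a generization. -/
lemma exists_generization_of_mem_weakAss {F : X.Modules} (hF : Coh.IsQCoh F) (x : X)
    (q : Ideal (X.presheaf.stalk x)) (hq : q ∈ FlatCA.weakAss (X.presheaf.stalk x) (F.presheaf.stalk x)) :
    ∃ y : X, y ⤳ x ∧ Curv2.IsWeakAssPoint F y ∧ (y = x → q = maximalIdeal (X.presheaf.stalk x)) := by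
  obtain ⟨V, hV, hxV, -⟩ := exists_isAffineOpen_mem_and_subset (x := x) (U := ⊤) trivial
  letI := QCoh.stalkAlg (X := X) hxV
  letI := QCoh.stalkModule F hxV
  haveI := QCoh.isScalarTower_stalk F hxV
  haveI := QCoh.isLocalization_stalk' hV hxV
  haveI := QCoh.isLocalizedModule_germLin hF hV hxV
  set S := (hV.primeIdealOf ⟨x, hxV⟩).asIdeal.primeCompl with hS
  have hqpr : q.IsPrime := by obtain ⟨m, hm⟩ := hq; exact hm.1.1
  let p := q.comap (algebraMap Γ(X, V) (X.presheaf.stalk x))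
  haveI hp : p.IsPrime := Ideal.comap_isPrime _ _
  have hmap : p.map (algebraMap Γ(X, V) (X.presheaf.stalk x)) = q := IsLocalization.map_under S _ q
  have hd : Disjoint (S : Set Γ(X, V)) (p : Set Γ(X, V)) := by
    refine Set.disjoint_left.2 fun s hs hsp => hqpr.ne_top ?_
    exact Ideal.eq_top_of_isUnit_mem _ hsp (IsLocalization.map_units (X.presheaf.stalk x) ⟨s, hs⟩)
  have hpw : p ∈ FlatCA.weakAss Γ(X, V) Γ(F, V) := by
    rw [WeakAss.mem_weakAss_iff_map S (R' := X.presheaf.stalk x) (QCoh.germLin F hxV) hd, hmap]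
    exact hq
  obtain ⟨y, hy, hyp, hyw⟩ := AssPtX.exists_isWeakAssPoint hF hV hpw
  refine ⟨y, (AssPtX.primeIdealOf_le_iff hV hy hxV).1 (hyp ▸ fun r hr => ?_), hyw, fun hyx => ?_⟩
  · by_contra h
    exact Set.disjoint_left.1 hd h hr
  · subst hyx
    rw [← hmap, ← hyp]
    exact IsLocalization.AtPrime.map_eq_maximalIdeal _ _

lemma depth_stalk_zero_iff {F : X.Modules} (hF : Coh.IsCoh F) (x : X) :
    ¬ (1 : ℕ∞) ≤ LocCoh.depth (X.presheaf.stalk x) (F.presheaf.stalk x) ↔ Curv2.IsAssPoint F x := by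
  haveI : Module.Finite (X.presheaf.stalk x) (F.presheaf.stalk x) :=
    QCoh.finite_stalk_of_isFT hF.1 (QCoh.isFT_of_isFP (QCoh.isCoh_iff_isFP.1 hF)) x
  rw [Alg6.one_le_depth_iff, not_not]
  exact Iff.rfl

/-- No embedded points is the condition `S₁`. -/
theorem noEmbedded_iff_S1 {F : X.Modules} (hF : Coh.IsCoh F) :
    (∀ x : X, Curv2.IsAssPoint F x → ∀ y : X, Curv2.IsAssPoint F y → y ⤳ x → y = x) ↔
      ∀ x : X, min (1 : WithBot ℕ∞) (Module.supportDim (X.presheaf.stalk x) (F.presheaf.stalk x)) ≤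
        ((LocCoh.depth (X.presheaf.stalk x) (F.presheaf.stalk x) : ℕ∞) : WithBot ℕ∞) := by
  constructor
  · intro h x
    by_cases hd : (1 : ℕ∞) ≤ LocCoh.depth (X.presheaf.stalk x) (F.presheaf.stalk x)
    · exact le_trans (min_le_left _ _) (WithBot.coe_le_coe.2 hd)
    haveI : Module.Finite (X.presheaf.stalk x) (F.presheaf.stalk x) :=
      QCoh.finite_stalk_of_isFT hF.1 (QCoh.isFT_of_isFP (QCoh.isCoh_iff_isFP.1 hF)) x
    have hx := (depth_stalk_zero_iff hF x).1 hd
    refine le_trans (min_le_right _ _) (le_trans (b := 0) ?_ (WithBot.coe_le_coe.2 bot_le))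
    refine Order.krullDim_nonpos_iff_forall_isMin.2 fun P Q hQP => ?_
    have hQmax : Q.1.asIdeal = maximalIdeal (X.presheaf.stalk x) := by
      have hQ : Module.annihilator (X.presheaf.stalk x) (F.presheaf.stalk x) ≤ Q.1.asIdeal :=
        Module.annihilator_le_of_mem_support Q.2
      obtain ⟨q, hq, hqQ⟩ := Ideal.exists_minimalPrimes_le hQ
      have hqa : q ∈ FlatCA.weakAss (X.presheaf.stalk x) (F.presheaf.stalk x) :=
        WeakAss.mem_weakAss_iff.2 (by
          have hass := Module.associatedPrimes.minimalPrimes_annihilator_subset_associatedPrimes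
            (X.presheaf.stalk x) (F.presheaf.stalk x) hq
          obtain ⟨hpr, m, hm⟩ := hass
          refine ⟨m, ?_⟩
          haveI := hpr
          rw [← AssPtX.colon_bot_singleton, ← Ideal.radical_minimalPrimes, ← hm,
            Ideal.minimalPrimes_eq_subsingleton_self]
          rfl)
      obtain ⟨y, hyx, hy, hyq⟩ := exists_generization_of_mem_weakAss hF.1 x q hqa
      have := hyq (h x hx y (AssPtX.isAssPoint_iff.2 hy) hyx)
      exact le_antisymm (le_maximalIdeal Q.1.isPrime.ne_top) (this ▸ hqQ)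
    show P.1.asIdeal ≤ Q.1.asIdeal
    rw [hQmax]
    exact le_maximalIdeal P.1.isPrime.ne_top
  · intro h x hx y hy hyx
    by_contra hne
    have h0 := h x
    haveI : Module.Finite (X.presheaf.stalk x) (F.presheaf.stalk x) :=
      QCoh.finite_stalk_of_isFT hF.1 (QCoh.isFT_of_isFP (QCoh.isCoh_iff_isFP.1 hF)) x
    have hd : LocCoh.depth (X.presheaf.stalk x) (F.presheaf.stalk x) = 0 := by
      have := (depth_stalk_zero_iff hF x).2 hx
      rwa [not_le, Order.lt_one_iff] at this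
    rw [hd] at h0
    have hdim : (1 : WithBot ℕ∞) ≤ Module.supportDim (X.presheaf.stalk x) (F.presheaf.stalk x) := by
      obtain ⟨V, hV, hxV, -⟩ := exists_isAffineOpen_mem_and_subset (x := x) (U := ⊤) trivial
      have hyV : y ∈ V := hyx.mem_open V.2 hxV
      letI := QCoh.stalkAlg (X := X) hxV
      letI := QCoh.stalkModule F hxV
      haveI := QCoh.isScalarTower_stalk F hxV
      haveI := QCoh.isLocalization_stalk' hV hxV
      haveI := QCoh.isLocalizedModule_germLin hF.1 hV hxV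
      have key : ∀ z : X, Curv2.IsAssPoint F z → ∀ (hz : z ∈ V), z ⤳ x →
          ∃ P : Module.support (X.presheaf.stalk x) (F.presheaf.stalk x),
            P.1.asIdeal = (hV.primeIdealOf ⟨z, hz⟩).asIdeal.map (algebraMap Γ(X, V) (X.presheaf.stalk x)) := by
        intro z hz hzV hzx
        have hle := (AssPtX.primeIdealOf_le_iff hV hzV hxV).2 hzx
        have hd : Disjoint ((hV.primeIdealOf ⟨x, hxV⟩).asIdeal.primeCompl : Set Γ(X, V))
            ((hV.primeIdealOf ⟨z, hzV⟩).asIdeal : Set Γ(X, V)) :=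
          Set.disjoint_left.2 fun s hs hs' => hs (hle hs')
        haveI := (hV.primeIdealOf ⟨z, hzV⟩).isPrime
        have hq := (WeakAss.mem_weakAss_iff_map _ (R' := X.presheaf.stalk x) (QCoh.germLin F hxV) hd).1
          ((AssPtX.isWeakAssPoint_iff_sections hF.1 hV hzV).1 (AssPtX.isAssPoint_iff.1 hz))
        obtain ⟨m, hm⟩ := WeakAss.mem_weakAss_iff.1 hq
        refine ⟨⟨⟨_, hm.1.1⟩, ?_⟩, rfl⟩
        rw [Module.mem_support_iff_of_finite]
        exact fun r hr => hm.1.2 (WeakAss.mem_annEl.2 (Module.mem_annihilator.1 hr m))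
      obtain ⟨P, hP⟩ := key x hx hxV specializes_rfl
      obtain ⟨Q, hQ⟩ := key y hy hyV hyx
      have hlt : Q < P := by
        refine lt_of_le_of_ne (show Q.1.asIdeal ≤ P.1.asIdeal by
          rw [hQ, hP]; exact Ideal.map_mono ((AssPtX.primeIdealOf_le_iff hV hyV hxV).2 hyx)) fun hQP => hne ?_
        have h1 : (hV.primeIdealOf ⟨y, hyV⟩).asIdeal = (hV.primeIdealOf ⟨x, hxV⟩).asIdeal := by
          have h2 := congrArg (fun P : Module.support _ _ => P.1.asIdeal.comap
            (algebraMap Γ(X, V) (X.presheaf.stalk x))) hQP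
          simp only [hQ, hP] at h2
          have e1 := IsLocalization.under_map_of_isPrime_disjoint
            (hV.primeIdealOf ⟨x, hxV⟩).asIdeal.primeCompl (X.presheaf.stalk x)
            (hV.primeIdealOf ⟨y, hyV⟩).isPrime (Set.disjoint_left.2 fun s hs hs' =>
                hs ((AssPtX.primeIdealOf_le_iff hV hyV hxV).2 hyx hs'))
          have e2 := IsLocalization.under_map_of_isPrime_disjoint
            (hV.primeIdealOf ⟨x, hxV⟩).asIdeal.primeCompl (X.presheaf.stalk x)
              (hV.primeIdealOf ⟨x, hxV⟩).isPrime (Set.disjoint_left.2 fun s hs hs' => hs hs')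
          exact e1.symm.trans (h2.trans e2)
        exact ((AssPtX.primeIdealOf_le_iff hV hxV hyV).1 h1.ge |>.antisymm hyx).eq.symm
      exact Order.one_le_krullDim_iff.2 ⟨Q, P, hlt⟩
    rw [min_eq_left hdim] at h0
    exact absurd h0 (by decide)

end Groth.Agent.Div86
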