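import Groth.Agent.Div86.MeroInv

/-!
# The ideal of denominators
-/

set_option autoImplicit false
set_option linter.style.haveILetI false
set_option backward.isDefEq.respectTransparency false
set_option backward.isDefEq.respectTransparency.types false

universe u

open CategoryTheory AlgebraicGeometry TopologicalSpace

namespace Groth.Agent.Div86

open Groth.Agent.InvX

variable {X : Scheme.{u}} {L : X.Modules}

lemma mbase_eq_mkLinearMap {U : X.Opens} (m : Γ(L, U)) (y : U) :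
    LocalizedModule.mkLinearMap (Mero.regStalk X y.1) _ (L.presheaf.germ U y.1 y.2 m) = mbase m y :=
  rfl

/-- Where the frame is fixed, denominators of `(a/b) e` are read off from `r a ∈ (b)`. -/
lemma mem_denom_iff_local {W : X.Opens} {e : Γ(L, W)} (he : IsFrame e) (a : Γ(X, W))
    (b : Mero.regSub X W) (s : Γ(Mero.merMod L, ⊤))
    (hs : ∀ y : W, s.1 ⟨y.1, trivial⟩ = (frac a b).1 y • mbase e y) {V : X.Opens} (hV : V ≤ W)
    (r : Γ(X, V)) :
    r ∈ Mero.denomIdeal L s V ↔ ∃ q : Γ(X, V),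
      q * X.presheaf.map (homOfLE hV).op b.1 = r * X.presheaf.map (homOfLE hV).op a := by
  have hkey : ∀ (q : Γ(X, V)) (y : V),
      (X.presheaf.germ V y.1 y.2 r • s.1 ⟨y.1, trivial⟩ = mbase (q • AModX.res L hV e) y ↔
      X.presheaf.germ V y.1 y.2 (q * X.presheaf.map (homOfLE hV).op b.1) =
        X.presheaf.germ V y.1 y.2 (r * X.presheaf.map (homOfLE hV).op a)) := by
    intro q y
    rw [hs ⟨y.1, hV y.2⟩, mbase_smul, mbase_res, ← algebraMap_smul (Mero.KStalk X y.1)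
      (X.presheaf.germ V y.1 y.2 r), smul_smul, map_mul, map_mul, X.presheaf.germ_res_apply,
      X.presheaf.germ_res_apply]
    have hf := mk_mul_algebraMap (X.presheaf.germ W y.1 (hV y.2) a) (Mero.regGerm ⟨y.1, hV y.2⟩ b)
    have hu := IsLocalization.map_units (Mero.KStalk X y.1) (Mero.regGerm ⟨y.1, hV y.2⟩ b)
    constructor
    · intro h
      have h' := smul_mbase_inj he ⟨y.1, hV y.2⟩ h
      apply Mero.algebraMap_KStalk_injective y.1
      rw [map_mul, map_mul, ← h', mul_assoc]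
      exact congrArg (_ * ·) hf
    · intro h
      refine congrArg (· • mbase e ⟨y.1, hV y.2⟩) (hu.mul_right_cancel ?_)
      rw [mul_assoc]
      refine (congrArg (_ * ·) hf).trans ?_
      rw [← map_mul, ← map_mul, h]
  constructor
  · rintro ⟨m, hm⟩
    obtain ⟨q, rfl⟩ := he.exists_coord hV m
    exact ⟨q, TopCat.Presheaf.section_ext X.sheaf _ _ _ fun y hy => (hkey q ⟨y, hy⟩).1 (hm ⟨y, hy⟩)⟩
  · rintro ⟨q, hq⟩
    exact ⟨q • AModX.res L hV e, fun y => (hkey q y).2 (congrArg (X.presheaf.germ V y.1 y.2) hq)⟩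

/-- Membership in the ideal of denominators is local (for an invertible module). -/
lemma mem_denom_of_locally (hL : PicF.IsInvertible L) (s : Γ(Mero.merMod L, ⊤)) {V : X.Opens} (r : Γ(X, V))
    (h : ∀ x : V, ∃ (W : X.Opens) (hW : W ≤ V), x.1 ∈ W ∧
      X.presheaf.map (homOfLE hW).op r ∈ Mero.denomIdeal L s W) :
    r ∈ Mero.denomIdeal L s V := by
  choose W hW hxW m hm using h
  have hval : ∀ (x : V) (y : W x), X.presheaf.germ V y.1 (hW x y.2) r • s.1 ⟨y.1, trivial⟩ =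
      mbase (m x) y := fun x y => by
    rw [← mbase_eq_mkLinearMap (m x) y, ← hm x y, X.presheaf.germ_res_apply]
  obtain ⟨M, hM, -⟩ := AModX.existsUnique_glue (M := L) (V := V) W hW
    (fun p hp => ⟨⟨p, hp⟩, hxW ⟨p, hp⟩⟩) m fun i j => by
      refine AModX.eq_of_locally _ _ fun p hp => ?_
      obtain ⟨U, hpU, e, he⟩ := exists_frame hL p
      refine ⟨W i ⊓ W j ⊓ U, inf_le_left, ⟨hp, hpU⟩, ?_⟩
      rw [AModX.res_res, AModX.res_res]
      obtain ⟨c, hc⟩ := he.exists_coord (inf_le_right : W i ⊓ W j ⊓ U ≤ U)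
        (AModX.res L ((inf_le_left : W i ⊓ W j ⊓ U ≤ _).trans inf_le_left) (m i))
      obtain ⟨d, hd⟩ := he.exists_coord (inf_le_right : W i ⊓ W j ⊓ U ≤ U)
        (AModX.res L ((inf_le_left : W i ⊓ W j ⊓ U ≤ _).trans inf_le_right) (m j))
      rw [hc, hd]
      congr 1
      refine TopCat.Presheaf.section_ext X.sheaf _ _ _ fun y hy => ?_
      apply Mero.algebraMap_KStalk_injective y
      refine smul_mbase_inj he ⟨y, hy.2⟩ ?_
      have h1 := (hval i ⟨y, hy.1.1⟩).symm.trans (hval j ⟨y, hy.1.2⟩)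
      rw [← mbase_res ((inf_le_left : W i ⊓ W j ⊓ U ≤ _).trans inf_le_left) (m i) ⟨y, hy⟩,
        ← mbase_res ((inf_le_left : W i ⊓ W j ⊓ U ≤ _).trans inf_le_right) (m j) ⟨y, hy⟩,
        hc, hd, mbase_smul, mbase_smul, mbase_res] at h1
      exact h1
  refine ⟨M, fun y => ?_⟩
  rw [mbase_eq_mkLinearMap, hval y ⟨y.1, hxW y⟩, ← hM y, mbase_res]

lemma map_mem_denom (s : Γ(Mero.merMod L, ⊤)) {U V : X.Opens} (h : V ≤ U) {r : Γ(X, U)}
    (hr : r ∈ Mero.denomIdeal L s U) : X.presheaf.map (homOfLE h).op r ∈ Mero.denomIdeal L s V := by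
  obtain ⟨m, hm⟩ := hr
  refine ⟨AModX.res L h m, fun y => ?_⟩
  rw [X.presheaf.germ_res_apply, germ_res']
  exact hm ⟨y.1, h y.2⟩

/-- Denominators over a basic open extend after multiplying by a power. -/
lemma exists_pow_mul_mem_denom (hL : PicF.IsInvertible L) (s : Γ(Mero.merMod L, ⊤)) {U : X.Opens}
    (hU : IsAffineOpen U) (c r₀ : Γ(X, U))
    (h : X.presheaf.map (homOfLE (X.basicOpen_le c)).op r₀ ∈ Mero.denomIdeal L s (X.basicOpen c)) :
    ∃ N, c ^ N * r₀ ∈ Mero.denomIdeal L s U := by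
  have hloc : ∀ z : U, ∃ (W : X.Opens) (hW : W ≤ U) (_ : z.1 ∈ W) (N : ℕ),
      X.presheaf.map (homOfLE hW).op (c ^ N * r₀) ∈ Mero.denomIdeal L s W := by
    intro z
    obtain ⟨W₀, hzW₀, e₀, he₀, a₀, b₀, hab⟩ := exists_local hL s z.1
    obtain ⟨d, hd, hzd⟩ := hU.exists_basicOpen_le (V := W₀) ⟨z.1, hzW₀⟩ z.2
    let W := X.basicOpen d
    have hWU : W ≤ U := X.basicOpen_le d
    let e := AModX.res L hd e₀
    let a : Γ(X, W) := X.presheaf.map (homOfLE hd).op a₀
    let b : Mero.regSub X W := ⟨X.presheaf.map (homOfLE hd).op b₀.1, Mero.regSub_res _ b₀.2⟩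
    have hab' : ∀ y : W, s.1 ⟨y.1, trivial⟩ = (frac a b).1 y • mbase e y := fun y => by
      rw [hab ⟨y.1, hd y.2⟩, mbase_res]
      refine congrArg (· • _) (Mero.mk_congr ?_ ?_) <;> exact (X.presheaf.germ_res_apply _ y.1 y.2 _).symm
    let R : Γ(X, U) →+* Γ(X, W) := (X.presheaf.map (homOfLE hWU).op).hom
    haveI := (hU.basicOpen d).isLocalization_basicOpen (R c)
    have hle : X.basicOpen (R c) ≤ X.basicOpen c :=
      ((show X.basicOpen (R c) = _ from X.basicOpen_res _ _).le).trans inf_le_right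
    have h' := map_mem_denom s hle h
    obtain ⟨q, hq⟩ := (mem_denom_iff_local (he₀.res hd) a b s hab' (X.basicOpen_le (R c)) _).1 h'
    obtain ⟨⟨q', ⟨_, n, rfl⟩⟩, hq'⟩ := IsLocalization.surj (Submonoid.powers (R c)) q
    have hz : algebraMap Γ(X, W) Γ(X, X.basicOpen (R c)) (R c ^ n * R r₀ * a - q' * b.1) = 0 := by
      dsimp only at hq'
      have hq2 : q * algebraMap Γ(X, W) Γ(X, X.basicOpen (R c)) b.1 =
          algebraMap Γ(X, W) Γ(X, X.basicOpen (R c)) (R r₀) *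
            algebraMap Γ(X, W) Γ(X, X.basicOpen (R c)) a := by
        refine hq.trans (congrArg (· * _) ?_)
        refine TopCat.Presheaf.section_ext X.sheaf _ _ _ fun y hy => ?_
        exact ((X.presheaf.germ_res_apply _ y hy _).trans (X.presheaf.germ_res_apply _ y _ r₀)).trans
          ((X.presheaf.germ_res_apply _ y hy _).trans (X.presheaf.germ_res_apply _ y _ r₀)).symm
      rw [map_sub, map_mul, map_mul, map_mul, ← hq']
      linear_combination (-algebraMap Γ(X, W) Γ(X, X.basicOpen (R c)) (R c ^ n)) * hq2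
    obtain ⟨⟨_, k, rfl⟩, hk⟩ := (IsLocalization.map_eq_zero_iff (Submonoid.powers (R c)) _ _).1 hz
    refine ⟨W, hWU, hzd, k + n, (mem_denom_iff_local (he₀.res hd) a b s hab' le_rfl _).2
      ⟨R c ^ k * q', ?_⟩⟩
    dsimp only at hk
    have e1 : ∀ x : Γ(X, W), X.presheaf.map (homOfLE (le_refl W)).op x = x := fun x => by
      rw [show (homOfLE (le_refl W)).op = 𝟙 _ from rfl, X.presheaf.map_id]; rfl
    rw [e1, e1, show X.presheaf.map (homOfLE hWU).op (c ^ (k + n) * r₀) = R c ^ (k + n) * R r₀ by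
      show R (c ^ (k + n) * r₀) = _
      rw [map_mul, map_pow]]
    linear_combination -hk
  choose W hWU hzW N hN using hloc
  obtain ⟨S, hS⟩ := hU.isCompact.elim_finite_subcover (fun z : U => (W z : Set X))
    (fun z => (W z).2) (fun z hz => Set.mem_iUnion.2 ⟨⟨z, hz⟩, hzW ⟨z, hz⟩⟩)
  refine ⟨S.sup N, mem_denom_of_locally hL s _ fun x => ?_⟩
  obtain ⟨z, hz, hxz⟩ := Set.mem_iUnion₂.1 (hS x.2)
  refine ⟨W z, hWU z, hxz, ?_⟩
  obtain ⟨j, hj⟩ := Nat.exists_eq_add_of_le (Finset.le_sup (f := N) hz)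
  have hj' : S.sup N = j + N z := hj.trans (add_comm _ _)
  rw [hj', pow_add, mul_assoc, map_mul]
  exact Ideal.mul_mem_left _ _ (hN z)

lemma denomIdeal_map_basicOpen (hL : PicF.IsInvertible L) (s : Γ(Mero.merMod L, ⊤)) (U : X.affineOpens)
    (c : Γ(X, U.1)) :
    (Mero.denomIdeal L s U.1).map (X.presheaf.map (homOfLE (X.basicOpen_le c)).op).hom =
      Mero.denomIdeal L s (X.basicOpen c) := by
  haveI := U.2.isLocalization_basicOpen c
  refine le_antisymm (Ideal.map_le_iff_le_comap.2 fun r hr => map_mem_denom s _ hr) fun r hr => ?_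
  obtain ⟨⟨r₀, ⟨_, n, rfl⟩⟩, hr₀⟩ := IsLocalization.surj (Submonoid.powers c) r
  dsimp only at hr₀
  have h1 : algebraMap Γ(X, U.1) Γ(X, X.basicOpen c) r₀ ∈ Mero.denomIdeal L s (X.basicOpen c) :=
    hr₀ ▸ Ideal.mul_mem_right _ _ hr
  obtain ⟨N, hN⟩ := exists_pow_mul_mem_denom hL s U.2 c r₀ h1
  refine (IsLocalization.mem_map_algebraMap_iff (Submonoid.powers c) _).2
    ⟨⟨⟨_, hN⟩, ⟨c ^ (N + n), N + n, rfl⟩⟩, ?_⟩
  show r * algebraMap Γ(X, U.1) _ (c ^ (N + n)) = algebraMap Γ(X, U.1) _ (c ^ N * r₀)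
  rw [map_mul, ← hr₀, pow_add, map_mul]
  ring

/-- The quasi-coherent ideal sheaf of denominators. -/
noncomputable def denomData (hL : PicF.IsInvertible L) (s : Γ(Mero.merMod L, ⊤)) : X.IdealSheafData where
  ideal U := Mero.denomIdeal L s U.1
  map_ideal_basicOpen := denomIdeal_map_basicOpen hL s

lemma exists_mem_denom (hL : PicF.IsInvertible L) (s : Γ(Mero.merMod L, ⊤)) {U : X.Opens}
    (hU : IsAffineOpen U) (y : U) :
    ∃ r ∈ Mero.denomIdeal L s U, X.presheaf.germ U y.1 y.2 r ∈ nonZeroDivisors (X.presheaf.stalk y.1) := by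
  obtain ⟨W, hyW, e, he, a, b, hab⟩ := exists_local hL s y.1
  obtain ⟨c, hc, hyc⟩ := hU.exists_basicOpen_le (V := W) ⟨y.1, hyW⟩ y.2
  haveI := hU.isLocalization_basicOpen c
  obtain ⟨⟨r₀, ⟨_, n, rfl⟩⟩, hr₀⟩ := IsLocalization.surj (Submonoid.powers c)
    (X.presheaf.map (homOfLE hc).op b.1)
  dsimp only at hr₀
  have h1 : algebraMap Γ(X, U) Γ(X, X.basicOpen c) r₀ ∈ Mero.denomIdeal L s (X.basicOpen c) :=
    hr₀ ▸ Ideal.mul_mem_right _ _ ((mem_denom_iff_local he a b s hab hc _).2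
      ⟨X.presheaf.map (homOfLE hc).op a, mul_comm _ _⟩)
  obtain ⟨N, hN⟩ := exists_pow_mul_mem_denom hL s hU c r₀ h1
  refine ⟨_, hN, ?_⟩
  have h2 := congrArg (X.presheaf.germ (X.basicOpen c) y.1 hyc) hr₀
  rw [map_mul, X.presheaf.germ_res_apply] at h2
  have e' : ∀ r : Γ(X, U), X.presheaf.germ _ y.1 hyc (algebraMap Γ(X, U) Γ(X, X.basicOpen c) r) =
      X.presheaf.germ U y.1 y.2 r := fun r => X.presheaf.germ_res_apply _ y.1 hyc r
  erw [e', e'] at h2
  have hu : IsUnit (X.presheaf.germ U y.1 y.2 c) := (X.mem_basicOpen c y.1 y.2).1 hyc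
  rw [map_mul, map_pow, ← h2, map_pow]
  exact mul_mem (pow_mem hu.mem_nonZeroDivisors _)
    (mul_mem (b.2 ⟨y.1, hc hyc⟩) (pow_mem hu.mem_nonZeroDivisors _))

lemma interior_support_denomData (hL : PicF.IsInvertible L) (s : Γ(Mero.merMod L, ⊤)) :
    interior ((denomData hL s).support : Set X) = ∅ := by
  by_contra h
  obtain ⟨y, hy⟩ := Set.nonempty_iff_ne_empty.2 h
  obtain ⟨U, hU, hyU, hUO⟩ := exists_isAffineOpen_mem_and_subset
    (U := (⟨interior ((denomData hL s).support : Set X), isOpen_interior⟩ : X.Opens)) hy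
  obtain ⟨r, hr, hreg⟩ := exists_mem_denom hL s hU ⟨y, hyU⟩
  have hsub : ∀ z ∈ U, z ∉ X.basicOpen r := fun z hz => by
    have h1 : z ∈ ((denomData hL s).support : Set X) ∩ (⟨U, hU⟩ : X.affineOpens).1 :=
      ⟨interior_subset (hUO hz), hz⟩
    rw [Scheme.IdealSheafData.coe_support_inter] at h1
    exact (X.mem_zeroLocus_iff _ z).1 h1.1 r hr
  have hnil : IsNilpotent r := nilpotent_iff_mem_prime.2 fun Q hQ => by
    obtain ⟨z, hz, hzQ⟩ := QCoh.exists_point hU ⟨Q, hQ⟩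
    have h4 := hsub z hz
    rw [QCoh.mem_basicOpen_iff_notMem hU hz, hzQ, not_not] at h4
    exact h4
  obtain ⟨n, hn⟩ := hnil
  have h3 := pow_mem hreg n
  rw [← map_pow, hn, map_zero] at h3
  exact zero_notMem_nonZeroDivisors h3

end Groth.Agent.Div86
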