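import Groth.Agent.AssPtX.Noeth
import Groth.Agent.MeroX.Basic
import Groth.Prelude.Def_MeroDiv
import Mathlib.AlgebraicGeometry.Morphisms.QuasiCompact

/-!
# Meromorphic functions on affine opens and weakly associated points
-/

set_option autoImplicit false
set_option linter.style.haveILetI false
set_option backward.isDefEq.respectTransparency false
set_option backward.isDefEq.respectTransparency.types false

universe u

open CategoryTheory AlgebraicGeometry TopologicalSpace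

namespace Groth.Agent.Div86

variable {X : Scheme.{u}}

/-- A weakly associated point of the structure sheaf. -/
abbrev WAss (x : X) : Prop := Curv2.IsWeakAssPoint (Coh.structureModule X) x

/-- Finitely many weakly associated points in each affine open. -/
def WFin (X : Scheme.{u}) : Prop :=
  ∀ W : X.Opens, IsAffineOpen W → {x : X | x ∈ W ∧ WAss x}.Finite

lemma wAss_iff {U : X.Opens} (hU : IsAffineOpen U) {x : X} (hx : x ∈ U) :
    WAss x ↔ (hU.primeIdealOf ⟨x, hx⟩).asIdeal ∈ FlatCA.weakAss Γ(X, U) Γ(X, U) :=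
  AssPtX.isWeakAssPoint_iff_sections QCoh.isQCoh_structureModule hU hx

lemma fn_ext_wAss {U : X.Opens} (a b : Γ(X, U))
    (h : ∀ (y : X) (hy : y ∈ U), WAss y → X.presheaf.germ U y hy a = X.presheaf.germ U y hy b) :
    a = b := by
  refine sub_eq_zero.1 ?_
  refine AssPtX.eq_zero_of_germ (F := Coh.structureModule X) QCoh.isQCoh_structureModule
    (show Γ(Coh.structureModule X, U) from a - b)
    fun y hy hya => ?_
  obtain ⟨W, hyW, i, j, hW⟩ := X.presheaf.germ_eq y hy hy a b (h y hy hya)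
  rw [← (Coh.structureModule X).presheaf.germ_res_apply i y hyW]
  refine Eq.trans (congrArg _ ?_) (map_zero _)
  show X.presheaf.map i.op (a - b) = 0
  rw [map_sub, hW, show i = j from Subsingleton.elim _ _, sub_self]

lemma germ_nzd_iff_notMem {U : X.Opens} (hU : IsAffineOpen U) {x : X} (hx : x ∈ U) (hw : WAss x)
    (r : Γ(X, U)) :
    X.presheaf.germ U x hx r ∈ nonZeroDivisors (X.presheaf.stalk x) ↔
      r ∉ (hU.primeIdealOf ⟨x, hx⟩).asIdeal := by
  constructor
  · intro hr hrP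
    letI := X.presheaf.algebra_section_stalk (U := U) ⟨x, hx⟩
    haveI := hU.isLocalization_stalk ⟨x, hx⟩
    obtain ⟨m, hm⟩ := (wAss_iff hU hx).1 hw
    obtain ⟨s, hs, n, hn⟩ := WeakAss.exists_mul_pow_mem hm hrP
    have h0 : X.presheaf.germ U x hx (s * r ^ n * m) = 0 :=
      (congrArg (X.presheaf.germ U x hx) (WeakAss.mem_annEl.1 hn)).trans (map_zero _)
    rw [map_mul, map_mul, map_pow, mul_right_comm] at h0
    have h1 := mem_nonZeroDivisors_iff_right.1 (pow_mem hr n) _ h0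
    have hsu : IsUnit (X.presheaf.germ U x hx s) :=
      (X.mem_basicOpen s x hx).1 ((QCoh.mem_basicOpen_iff_notMem hU hx s).2 hs)
    obtain ⟨t, ht⟩ := (IsLocalization.map_eq_zero_iff (hU.primeIdealOf ⟨x, hx⟩).asIdeal.primeCompl
      (X.presheaf.stalk x) m).1 (hsu.mul_right_eq_zero.1 h1)
    exact t.2 (hm.1.2 (WeakAss.mem_annEl.2 ht))
  · intro hr
    exact ((X.mem_basicOpen r x hx).1 ((QCoh.mem_basicOpen_iff_notMem hU hx r).2 hr)).mem_nonZeroDivisors

lemma isUnit_germ_of_nzd {x : X} (hw : WAss x) {g : X.presheaf.stalk x}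
    (hg : g ∈ nonZeroDivisors (X.presheaf.stalk x)) : IsUnit g := by
  obtain ⟨V, hxV, f, rfl⟩ := X.presheaf.exists_germ_eq (x := x) g
  obtain ⟨W, hW, hxW, hWV⟩ := exists_isAffineOpen_mem_and_subset hxV
  rw [← X.presheaf.germ_res_apply (homOfLE hWV) x hxW f] at hg ⊢
  exact (X.mem_basicOpen _ x hxW).1
    ((QCoh.mem_basicOpen_iff_notMem hW hxW _).2 ((germ_nzd_iff_notMem hW hxW hw _).1 hg))

lemma mem_nonZeroDivisors_of_wAss {U : X.Opens} (r : Γ(X, U))
    (h : ∀ (y : X) (hy : y ∈ U), WAss y → X.presheaf.germ U y hy r ∈ nonZeroDivisors (X.presheaf.stalk y)) :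
    r ∈ nonZeroDivisors Γ(X, U) := by
  refine mem_nonZeroDivisors_iff_right.2 fun c hc => fn_ext_wAss c 0 fun y hy hw => ?_
  rw [map_zero]
  refine mem_nonZeroDivisors_iff_right.1 (h y hy hw) _ ?_
  rw [← map_mul, hc, map_zero]

lemma mem_regSub_of_wAss {U : X.Opens} (r : Γ(X, U))
    (h : ∀ (y : X) (hy : y ∈ U), WAss y → X.presheaf.germ U y hy r ∈ nonZeroDivisors (X.presheaf.stalk y)) :
    r ∈ Mero.regSub X U := by
  intro y
  obtain ⟨W, hW, hyW, hWU⟩ := exists_isAffineOpen_mem_and_subset y.2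
  rw [← X.presheaf.germ_res_apply (homOfLE hWU) y.1 hyW r]
  refine MeroX.germ_mem_nonZeroDivisors hW (mem_nonZeroDivisors_of_wAss _ fun z hz hw => ?_) y.1 hyW
  rw [X.presheaf.germ_res_apply]
  exact h z (hWU hz) hw

/-- Prime avoidance at finitely many weakly associated points. -/
lemma exists_mem_notMem_wAss {U : X.Opens} (hU : IsAffineOpen U)
    (hfin : {x : X | x ∈ U ∧ WAss x}.Finite) (I : Ideal Γ(X, U))
    (h : ∀ (y : X) (hy : y ∈ U), WAss y → ∃ r ∈ I, r ∉ (hU.primeIdealOf ⟨y, hy⟩).asIdeal) :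
    ∃ r ∈ I, ∀ (y : X) (hy : y ∈ U), WAss y → r ∉ (hU.primeIdealOf ⟨y, hy⟩).asIdeal := by
  classical
  haveI := hfin.to_subtype
  let T := {x : X | x ∈ U ∧ WAss x}
  haveI := Fintype.ofFinite T
  let P : T → Ideal Γ(X, U) := fun y => (hU.primeIdealOf ⟨y.1, y.2.1⟩).asIdeal
  by_contra hc
  push Not at hc
  have hsub : (I : Set Γ(X, U)) ⊆ ⋃ i ∈ ((Finset.univ : Finset T) : Set T), (P i : Set Γ(X, U)) := by
    intro r hr
    obtain ⟨y, hy, hw, hry⟩ := hc r hr
    exact Set.mem_biUnion (x := (⟨y, hy, hw⟩ : T)) (Finset.mem_univ _) hry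
  rcases isEmpty_or_nonempty T with hT | ⟨⟨t⟩⟩
  · simp only [Finset.univ_eq_empty, Finset.coe_empty, Set.biUnion_empty] at hsub
    exact hsub I.zero_mem
  obtain ⟨i, -, hi⟩ := (Ideal.subset_union_prime t t
    fun i _ _ _ => (hU.primeIdealOf ⟨i.1, i.2.1⟩).isPrime).1 hsub
  obtain ⟨r, hr, hrn⟩ := h i.1 i.2.1 i.2.2
  exact hrn (hi hr)

/-- Values of `toK`. -/
lemma toK_val {U : X.Opens} (r : Γ(X, U)) (y : U) :
    (Mero.toK X U r).1 y =
      algebraMap (X.presheaf.stalk y.1) (Mero.KStalk X y.1) (X.presheaf.germ U y.1 y.2 r) :=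
  rfl

lemma mk_mul_algebraMap {x : X} (a : X.presheaf.stalk x) (s : Mero.regStalk X x) :
    (LocalizedModule.mk a s : Mero.KStalk X x) * algebraMap (X.presheaf.stalk x) (Mero.KStalk X x) s =
      algebraMap (X.presheaf.stalk x) (Mero.KStalk X x) a := by
  have h := IsLocalization.mk'_spec (Mero.KStalk X x) a s
  rwa [← Localization.mk_eq_mk'] at h

lemma toK_injective (U : X.Opens) : Function.Injective (Mero.toK X U) := fun r r' h => by
  refine TopCat.Presheaf.section_ext X.sheaf _ _ _ fun z hz => Mero.algebraMap_KStalk_injective z ?_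
  exact congrArg (fun f : Γ(Mero.kmod X, U) => f.1 ⟨z, hz⟩) h

/-- The fraction `a / b`. -/
noncomputable def frac {U : X.Opens} (a : Γ(X, U)) (b : Mero.regSub X U) : Γ(Mero.kmod X, U) :=
  ⟨fun x => LocalizedModule.mk (X.presheaf.germ U x.1 x.2 a) (Mero.regGerm x b),
    fun x => ⟨U, x.2, 𝟙 _, a, b, fun _ => rfl⟩⟩

lemma frac_mul {U : X.Opens} (a : Γ(X, U)) (b : Mero.regSub X U) :
    frac a b * Mero.toK X U b.1 = Mero.toK X U a :=
  Subtype.ext <| funext fun y => mk_mul_algebraMap (X.presheaf.germ U y.1 y.2 a) (Mero.regGerm y b)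

lemma isUnit_toK {U : X.Opens} (b : Mero.regSub X U) : IsUnit (Mero.toK X U b.1) :=
  IsUnit.of_mul_eq_one (frac 1 b) ((mul_comm _ _).trans ((frac_mul 1 b).trans (map_one _)))

/-- Two meromorphic functions agreeing at the weakly associated points are equal. -/
lemma kmod_ext_wAss {U : X.Opens} (t t' : Γ(Mero.kmod X, U))
    (h : ∀ y : U, WAss y.1 → t.1 y = t'.1 y) : t = t' := by
  refine sub_eq_zero.1 (Subtype.ext <| funext fun y => ?_)
  obtain ⟨W, hyW, i, a, b, hab⟩ := (t - t').2 y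
  suffices ha : a = 0 by
    have h1 : (t - t').1 y = LocalizedModule.mk (X.presheaf.germ W y.1 hyW a) (Mero.regGerm ⟨y.1, hyW⟩ b) :=
      hab ⟨y.1, hyW⟩
    rw [h1, ha, map_zero, LocalizedModule.zero_mk]
    rfl
  refine fn_ext_wAss a 0 fun z hz hw => ?_
  rw [map_zero]
  apply Mero.algebraMap_KStalk_injective z
  rw [map_zero, ← mk_mul_algebraMap (X.presheaf.germ W z hz a) (Mero.regGerm ⟨z, hz⟩ b)]
  refine mul_eq_zero_of_left ((hab ⟨z, hz⟩).symm.trans ?_) _
  exact (map_sub (Mero.evalK X U ⟨z, i.le hz⟩) t t').trans (sub_eq_zero.2 (h ⟨z, i.le hz⟩ hw))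

/-- The ideal of denominators of a meromorphic function. -/
noncomputable def den {U : X.Opens} (t : Γ(Mero.kmod X, U)) : Ideal Γ(X, U) where
  carrier := {r | ∃ a, Mero.toK X U r * t = Mero.toK X U a}
  zero_mem' := ⟨0, by rw [map_zero, zero_mul]⟩
  add_mem' := by
    rintro r r' ⟨a, ha⟩ ⟨a', ha'⟩
    exact ⟨a + a', by rw [map_add, map_add, add_mul, ha, ha']⟩
  smul_mem' := by
    rintro c r ⟨a, ha⟩
    exact ⟨c * a, by rw [smul_eq_mul, map_mul, map_mul, mul_assoc, ha]⟩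

/-- Near every point the ideal of denominators contains a regular germ. -/
lemma exists_mem_den {U : X.Opens} (hU : IsAffineOpen U) (t : Γ(Mero.kmod X, U)) (y : U) :
    ∃ r ∈ den t, X.presheaf.germ U y.1 y.2 r ∈ nonZeroDivisors (X.presheaf.stalk y.1) := by
  classical
  have hloc : ∀ z : U, ∃ c : Γ(X, U), z.1 ∈ X.basicOpen c ∧
      ∃ (a : Γ(X, X.basicOpen c)) (b : Mero.regSub X (X.basicOpen c)),
        Mero.toK X _ b.1 *
            ((Mero.kmod X).presheaf.map (homOfLE (X.basicOpen_le c)).op t : Γ(Mero.kmod X, X.basicOpen c)) =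
          Mero.toK X _ a := by
    intro z
    obtain ⟨W, hzW, i, a, b, hab⟩ := t.2 z
    obtain ⟨c, hcW, hzc⟩ := hU.exists_basicOpen_le (V := W) ⟨z.1, hzW⟩ z.2
    refine ⟨c, hzc, X.presheaf.map (homOfLE hcW).op a,
      ⟨X.presheaf.map (homOfLE hcW).op b.1, Mero.regSub_res _ b.2⟩, Subtype.ext <| funext fun w => ?_⟩
    rw [Mero.kmod_mul_apply, toK_val, toK_val, X.presheaf.germ_res_apply, X.presheaf.germ_res_apply,
      mul_comm, ← mk_mul_algebraMap (X.presheaf.germ W w.1 (hcW w.2) a) (Mero.regGerm ⟨w.1, hcW w.2⟩ b)]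
    exact congrArg (· * _) (hab ⟨w.1, hcW w.2⟩)
  choose c hc a b hab using hloc
  have hval : ∀ (z : U) (w : X) (hwU : w ∈ U) (hw : w ∈ X.basicOpen (c z)),
      t.1 ⟨w, hwU⟩ * algebraMap _ (Mero.KStalk X w) (X.presheaf.germ _ w hw (b z).1) =
        algebraMap _ (Mero.KStalk X w) (X.presheaf.germ _ w hw (a z)) := fun z w hwU hw => by
    rw [mul_comm]
    exact congrArg (fun f : Γ(Mero.kmod X, X.basicOpen (c z)) => f.1 ⟨w, hw⟩) (hab z)
  -- clear the powers of `c y`
  haveI := hU.isLocalization_basicOpen (c y)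
  obtain ⟨⟨b', ⟨_, n, rfl⟩⟩, hb'⟩ := IsLocalization.surj (Submonoid.powers (c y)) (b y).1
  obtain ⟨⟨a', ⟨_, k, rfl⟩⟩, ha'⟩ := IsLocalization.surj (Submonoid.powers (c y)) (a y)
  dsimp only at hb' ha'
  let β := c y ^ k * b'
  let α := c y ^ n * a'
  have hcy : ∀ (w : X) (hwU : w ∈ U) (hw : w ∈ X.basicOpen (c y)),
      X.presheaf.germ U w hwU b' =
        X.presheaf.germ _ w hw (b y).1 * X.presheaf.germ U w hwU (c y) ^ n ∧
      X.presheaf.germ U w hwU a' =
        X.presheaf.germ _ w hw (a y) * X.presheaf.germ U w hwU (c y) ^ k := by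
    intro w hwU hw
    have h1 := congrArg (X.presheaf.germ (X.basicOpen (c y)) w hw) hb'
    have h2 := congrArg (X.presheaf.germ (X.basicOpen (c y)) w hw) ha'
    rw [map_mul] at h1 h2
    have e : ∀ r : Γ(X, U), X.presheaf.germ _ w hw (algebraMap Γ(X, U) Γ(X, X.basicOpen (c y)) r) =
        X.presheaf.germ U w hwU r := fun r => X.presheaf.germ_res_apply _ w hw r
    erw [e, e] at h1 h2
    rw [map_pow] at h1 h2
    exact ⟨h1.symm, h2.symm⟩
  have hloc' : ∀ z : U, ∃ N : ℕ, ∀ (w : X) (hwU : w ∈ U), w ∈ X.basicOpen (c z) →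
      algebraMap _ (Mero.KStalk X w) (X.presheaf.germ U w hwU (c y ^ N * β)) * t.1 ⟨w, hwU⟩ =
        algebraMap _ (Mero.KStalk X w) (X.presheaf.germ U w hwU (c y ^ N * α)) := by
    intro z
    let R : Γ(X, U) →+* Γ(X, X.basicOpen (c z)) := (X.presheaf.map (homOfLE (X.basicOpen_le (c z))).op).hom
    let d : Γ(X, X.basicOpen (c z)) := R β * a z - R α * (b z).1
    haveI := (hU.basicOpen (c z)).isLocalization_basicOpen (R (c y))
    have hd : algebraMap Γ(X, X.basicOpen (c z)) Γ(X, X.basicOpen (R (c y))) d = 0 := by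
      refine TopCat.Presheaf.section_ext X.sheaf _ _ 0 fun w hw => ?_
      have hwz : w ∈ X.basicOpen (c z) := X.basicOpen_le _ hw
      have hwy : w ∈ X.basicOpen (c y) :=
        ((show X.basicOpen (R (c y)) = _ from X.basicOpen_res _ _).le hw).2
      have hwU : w ∈ U := X.basicOpen_le (c y) hwy
      refine Eq.trans (X.presheaf.germ_res_apply _ w hw d) ?_
      refine Eq.trans ?_ (map_zero _).symm
      have eR : ∀ r : Γ(X, U), X.presheaf.germ _ w hwz (R r) = X.presheaf.germ U w hwU r :=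
        fun r => X.presheaf.germ_res_apply _ w hwz r
      apply Mero.algebraMap_KStalk_injective w
      simp only [d, map_sub, map_mul, eR, map_zero]
      simp only [β, α, map_mul, map_pow, (hcy w hwU hwy).1, (hcy w hwU hwy).2]
      rw [← hval z w hwU hwz, ← hval y w hwU hwy]
      ring
    obtain ⟨⟨_, N, rfl⟩, hN⟩ := (IsLocalization.map_eq_zero_iff (Submonoid.powers (R (c y))) _ d).1 hd
    refine ⟨N, fun w hwU hwz => ?_⟩
    have h1 := congrArg (fun q => algebraMap (X.presheaf.stalk w) (Mero.KStalk X w)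
      (X.presheaf.germ _ w hwz q)) hN
    have eR : ∀ r : Γ(X, U), X.presheaf.germ _ w hwz (R r) = X.presheaf.germ U w hwU r :=
      fun r => X.presheaf.germ_res_apply _ w hwz r
    simp only [d, map_sub, map_mul, map_pow, eR, map_zero, ← hval z w hwU hwz] at h1
    refine (IsLocalization.map_units (Mero.KStalk X w) (Mero.regGerm ⟨w, hwz⟩ (b z))).mul_left_cancel ?_
    simp only [map_mul, map_pow]
    linear_combination h1
  choose N hN using hloc'
  obtain ⟨S, hS⟩ := hU.isCompact.elim_finite_subcover (fun z : U => (X.basicOpen (c z) : Set X))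
    (fun z => (X.basicOpen (c z)).2) (fun z hz => Set.mem_iUnion.2 ⟨⟨z, hz⟩, hc ⟨z, hz⟩⟩)
  let M := S.sup N
  refine ⟨c y ^ M * β, ⟨c y ^ M * α, Subtype.ext <| funext fun w => ?_⟩, ?_⟩
  · obtain ⟨z, hz, hwz⟩ := Set.mem_iUnion₂.1 (hS w.2)
    obtain ⟨j, hj⟩ := Nat.exists_eq_add_of_le (Finset.le_sup (f := N) hz)
    have hj' : M = N z + j := hj
    rw [Mero.kmod_mul_apply, toK_val, toK_val, hj', pow_add, mul_comm _ (c y ^ j), mul_assoc,
      mul_assoc, map_mul, map_mul, map_mul _ _ (c y ^ N z * α), map_mul _ _ (X.presheaf.germ U w.1 w.2 (c y ^ N z * α)),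
      mul_assoc, hN z w.1 w.2 hwz]
  · have hu : IsUnit (X.presheaf.germ U y.1 y.2 (c y)) := (X.mem_basicOpen (c y) y.1 y.2).1 (hc y)
    simp only [β, map_mul, map_pow, (hcy y.1 y.2 (hc y)).1]
    exact mul_mem (pow_mem hu.mem_nonZeroDivisors _) (mul_mem (pow_mem hu.mem_nonZeroDivisors _)
      (mul_mem ((b y).2 ⟨y.1, hc y⟩) (pow_mem hu.mem_nonZeroDivisors _)))

/-- On an affine open with finitely many weakly associated points every meromorphic function is one
fraction. -/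
lemma exists_frac {U : X.Opens} (hU : IsAffineOpen U) (hfin : {x : X | x ∈ U ∧ WAss x}.Finite)
    (t : Γ(Mero.kmod X, U)) :
    ∃ (a : Γ(X, U)) (b : Mero.regSub X U), Mero.toK X U b.1 * t = Mero.toK X U a := by
  obtain ⟨r, ⟨a, ha⟩, hr⟩ := exists_mem_notMem_wAss hU hfin (den t) fun y hy hw => by
    obtain ⟨r, hr, hn⟩ := exists_mem_den hU t ⟨y, hy⟩
    exact ⟨r, hr, (germ_nzd_iff_notMem hU hy hw r).1 hn⟩
  exact ⟨a, ⟨r, mem_regSub_of_wAss r fun y hy hw => (germ_nzd_iff_notMem hU hy hw r).2 (hr y hy hw)⟩, ha⟩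

lemma isLocalization_kmod {U : X.Opens} (hU : IsAffineOpen U)
    (hfin : {x : X | x ∈ U ∧ WAss x}.Finite) :
    @IsLocalization Γ(X, U) _ (nonZeroDivisors Γ(X, U)) Γ(Mero.kmod X, U) _ (Mero.toK X U).toAlgebra := by
  letI := (Mero.toK X U).toAlgebra
  refine (isLocalization_iff _ _).2 ⟨fun b => ?_, fun t => ?_, fun {a b} h => ⟨1, by rw [toK_injective U h]⟩⟩
  · exact isUnit_toK ⟨b.1, by rw [MeroX.regSub_eq_nonZeroDivisors hU]; exact b.2⟩
  · obtain ⟨a, b, h⟩ := exists_frac hU hfin t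
    exact ⟨(a, ⟨b.1, MeroX.regSub_eq_nonZeroDivisors hU ▸ b.2⟩), (mul_comm _ _).trans h⟩

/-- Glue meromorphic functions along their values at weakly associated points. -/
lemma exists_glue {U : X.Opens} (v : ∀ y : U, Mero.KStalk X y.1)
    (h : ∀ x : U, ∃ (W : X.Opens) (hW : W ≤ U) (_ : x.1 ∈ W) (t : Γ(Mero.kmod X, W)),
      ∀ y : W, WAss y.1 → t.1 y = v ⟨y.1, hW y.2⟩) :
    ∃ s : Γ(Mero.kmod X, U), ∀ y : U, WAss y.1 → s.1 y = v y := by
  choose W hW hxW t ht using h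
  refine ⟨⟨fun y => (t y).1 ⟨y.1, hxW y⟩, fun x => ?_⟩, fun y hy => ht y ⟨y.1, hxW y⟩ hy⟩
  obtain ⟨W', hxW', i, a, b, hab⟩ := (t x).2 ⟨x.1, hxW x⟩
  refine ⟨W', hxW', i ≫ homOfLE (hW x), a, b, fun z => ?_⟩
  let z' : U := ⟨z.1, hW x (i.le z.2)⟩
  show (t z').1 ⟨z'.1, hxW z'⟩ = _
  refine Eq.trans ?_ (hab z)
  have hk := kmod_ext_wAss ((Mero.kmod X).presheaf.map (homOfLE inf_le_left).op (t z') :
      Γ(Mero.kmod X, W z' ⊓ W x))
    ((Mero.kmod X).presheaf.map (homOfLE inf_le_right).op (t x))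
    (fun w hw => (ht z' ⟨w.1, w.2.1⟩ hw).trans (ht x ⟨w.1, w.2.2⟩ hw).symm)
  exact congrArg (fun f : Γ(Mero.kmod X, W z' ⊓ W x) => f.1 ⟨z.1, hxW z', i.le z.2⟩) hk

end Groth.Agent.Div86
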