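import Groth.Agent.Div86.MeroFrac
import Groth.Agent.DivX.MeroMod
import Groth.Agent.InvX.GenLocusPull

/-!
# Regular meromorphic sections of invertible modules
-/

set_option autoImplicit false
set_option linter.style.haveILetI false
set_option backward.isDefEq.respectTransparency false
set_option backward.isDefEq.respectTransparency.types false

universe u

open CategoryTheory AlgebraicGeometry TopologicalSpace

namespace Groth.Agent.Div86

open Groth.Agent.InvX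

variable {X : Scheme.{u}} {L : X.Modules}

/-- The class of a frame at a point. -/
noncomputable abbrev mbase {U : X.Opens} (e : Γ(L, U)) (y : U) : Mero.MStalk L y.1 :=
  LocalizedModule.mk (L.presheaf.germ U y.1 y.2 e) 1

lemma kmk_smul_mk {x : X} (c : X.presheaf.stalk x) (s t : Mero.regStalk X x) (m : L.presheaf.stalk x) :
    (LocalizedModule.mk c s : Mero.KStalk X x) • (LocalizedModule.mk m t : Mero.MStalk L x) =
      LocalizedModule.mk (c • m) (s * t) :=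
  LocalizedModule.mk_smul_mk c m s t

lemma inv_aux {K : Type*} [CommRing K] {fa fb ga gb R : K} (ha : ga * fa = 1) (hb : gb * fb = 1)
    (h : fb * R = fa) : gb = R * ga := by
  calc gb = gb * (ga * fa) := by rw [ha, mul_one]
    _ = gb * (ga * (fb * R)) := by rw [h]
    _ = (gb * fb) * (R * ga) := by ring
    _ = R * ga := by rw [hb, one_mul]

lemma exists_coef {U : X.Opens} {e : Γ(L, U)} (he : IsFrame e) (y : U) (m : Mero.MStalk L y.1) :
    ∃ q : Mero.KStalk X y.1, m = q • mbase e y := by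
  induction m using LocalizedModule.induction_on with
  | h n s =>
    obtain ⟨c, hc⟩ := (he.germ_bijective y.2).2 n
    refine ⟨LocalizedModule.mk c s, ?_⟩
    rw [kmk_smul_mk, mul_one]
    exact Mero.mk_congr hc.symm rfl

lemma smul_mbase_eq_zero {U : X.Opens} {e : Γ(L, U)} (he : IsFrame e) (y : U)
    {q : Mero.KStalk X y.1} (h : q • mbase e y = 0) : q = 0 := by
  induction q using LocalizedModule.induction_on with
  | h c s =>
    rw [kmk_smul_mk, ← LocalizedModule.zero_mk (1 : Mero.regStalk X y.1),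
      LocalizedModule.mk_eq] at h
    obtain ⟨v, hv⟩ := h
    rw [smul_zero, smul_zero, one_smul, Submonoid.smul_def, smul_smul] at hv
    have h1 : (v : X.presheaf.stalk y.1) * c = 0 := by
      apply (he.germ_bijective y.2).1
      dsimp only
      rw [hv, zero_smul]
    have hv2 : (v : X.presheaf.stalk y.1) ∈ nonZeroDivisors (X.presheaf.stalk y.1) :=
      Mero.regStalk_le_nonZeroDivisors (X := X) y.1 v.property
    have h2 : c = 0 := mem_nonZeroDivisors_iff_right.1 hv2 c ((mul_comm _ _).trans h1)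
    rw [h2, LocalizedModule.zero_mk]

lemma smul_mbase_inj {U : X.Opens} {e : Γ(L, U)} (he : IsFrame e) (y : U)
    {q q' : Mero.KStalk X y.1} (h : q • mbase e y = q' • mbase e y) : q = q' :=
  sub_eq_zero.1 (smul_mbase_eq_zero he y (by rw [sub_smul, h, sub_self]))

lemma mbase_smul {U : X.Opens} (e : Γ(L, U)) (r : Γ(X, U)) (y : U) :
    mbase (r • e) y =
      algebraMap (X.presheaf.stalk y.1) (Mero.KStalk X y.1) (X.presheaf.germ U y.1 y.2 r) • mbase e y := by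
  rw [algebraMap_smul, LocalizedModule.smul'_mk]
  exact Mero.mk_congr (QCoh.germ_smul' L y.2 r e) rfl

lemma mbase_res {U V : X.Opens} (h : V ≤ U) (e : Γ(L, U)) (y : V) :
    mbase (AModX.res L h e) y = mbase e ⟨y.1, h y.2⟩ :=
  Mero.mk_congr (germ_res' h y.2 e) rfl

/-- A meromorphic section is locally a meromorphic function times a frame. -/
lemma exists_local (hL : PicF.IsInvertible L) (s : Γ(Mero.merMod L, ⊤)) (x : X) :
    ∃ (U : X.Opens) (_ : x ∈ U) (e : Γ(L, U)) (_ : IsFrame e) (a : Γ(X, U)) (b : Mero.regSub X U),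
      ∀ y : U, s.1 ⟨y.1, trivial⟩ = (frac a b).1 y • mbase e y := by
  obtain ⟨W, hxW, i, m, b, hmb⟩ := s.2 ⟨x, trivial⟩
  obtain ⟨U, hxU, e, he⟩ := exists_frame hL x
  obtain ⟨r, hr⟩ := he.exists_coord (inf_le_right : W ⊓ U ≤ U) (AModX.res L (inf_le_left : W ⊓ U ≤ W) m)
  refine ⟨W ⊓ U, ⟨hxW, hxU⟩, AModX.res L inf_le_right e, he.res _, r,
    ⟨X.presheaf.map (homOfLE inf_le_left).op b.1, Mero.regSub_res _ b.2⟩, fun y => ?_⟩
  refine (hmb ⟨y.1, y.2.1⟩).trans ?_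
  show _ = (LocalizedModule.mk _ _ : Mero.KStalk X y.1) • _
  rw [kmk_smul_mk, mul_one]
  refine Mero.mk_congr ?_ (X.presheaf.germ_res_apply _ y.1 y.2 b.1).symm
  rw [← QCoh.germ_smul', ← hr, germ_res']

lemma isRegularMero_of_local (s : Γ(Mero.merMod L, ⊤))
    (h : ∀ x : X, ∃ (U : X.Opens) (hxU : x ∈ U) (e : Γ(L, U)) (_ : IsFrame e) (f : Γ(Mero.kmod X, U)),
      IsUnit (f.1 ⟨x, hxU⟩) ∧ s.1 ⟨x, trivial⟩ = f.1 ⟨x, hxU⟩ • mbase e ⟨x, hxU⟩) :
    Mero.IsRegularMero L s := by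
  intro x q hq
  obtain ⟨U, hxU, e, he, f, hu, hf⟩ := h x
  rw [hf, smul_smul] at hq
  exact hu.mul_left_eq_zero.1 (smul_mbase_eq_zero he _ hq)

/-- A regular meromorphic section is locally a unit of `K` times a frame. -/
lemma exists_local_unit (hL : PicF.IsInvertible L) (s : Γ(Mero.merMod L, ⊤))
    (hs : Mero.IsRegularMero L s) (x : X) :
    ∃ (U : X.Opens) (_ : x ∈ U) (e : Γ(L, U)) (_ : IsFrame e) (f : (Γ(Mero.kmod X, U))ˣ),
      ∀ y : U, s.1 ⟨y.1, trivial⟩ = f.1.1 y • mbase e y := by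
  obtain ⟨U, hxU, e, he, a, b, hab⟩ := exists_local hL s x
  have ha : a ∈ Mero.regSub X U := fun y => by
    rw [mem_nonZeroDivisors_iff_right]
    intro c hc
    apply Mero.algebraMap_KStalk_injective y.1
    rw [map_zero]
    refine hs y.1 _ ?_
    rw [hab y, smul_smul]
    refine (congrArg (· • mbase e y) ?_).trans (zero_smul _ _)
    refine (IsLocalization.map_units (Mero.KStalk X y.1) (Mero.regGerm y b)).mul_left_eq_zero.1 ?_
    rw [mul_assoc]
    refine (congrArg (_ * ·) (mk_mul_algebraMap (X.presheaf.germ U y.1 y.2 a) (Mero.regGerm y b))).trans ?_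
    rw [← map_mul, hc, map_zero]
  have hu : IsUnit (frac a b) :=
    isUnit_of_mul_isUnit_left (y := Mero.toK X U b.1) ((frac_mul a b).symm ▸ isUnit_toK ⟨a, ha⟩)
  exact ⟨U, hxU, e, he, hu.unit, hab⟩

lemma germ_one_eq {x : X} (g g' : (Mero.KStalk X x)ˣ) (v : (X.presheaf.stalk x)ˣ)
    (h : (g : Mero.KStalk X x) =
      (g' : Mero.KStalk X x) * algebraMap (X.presheaf.stalk x) (Mero.KStalk X x) v.1) :
    (QuotientGroup.mk g : Mero.Germ X x) = QuotientGroup.mk g' := by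
  refine (QuotientGroup.eq.2 (show g'⁻¹ * g ∈ Mero.stalkUnits X x from ⟨v, ?_⟩)).symm
  refine Units.ext ?_
  rw [Units.val_mul, h, Units.inv_mul_cancel_left]
  rfl

lemma mbase_eq_smul {x : X} {U U' : X.Opens} (hx : x ∈ U) (hx' : x ∈ U') {e : Γ(L, U)}
    {e' : Γ(L, U')} {c : X.presheaf.stalk x}
    (hc : c • L.presheaf.germ U x hx e = L.presheaf.germ U' x hx' e') :
    mbase e' ⟨x, hx'⟩ = algebraMap (X.presheaf.stalk x) (Mero.KStalk X x) c • mbase e ⟨x, hx⟩ := by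
  rw [algebraMap_smul, LocalizedModule.smul'_mk]
  exact Mero.mk_congr hc.symm rfl

lemma coef_change {x : X} {U U' : X.Opens} (hx : x ∈ U) (hx' : x ∈ U') {e : Γ(L, U)}
    {e' : Γ(L, U')} (he : IsFrame e) {q q' R : Mero.KStalk X x}
    (hR : mbase e' ⟨x, hx'⟩ = R • mbase e ⟨x, hx⟩)
    (h : q • mbase e ⟨x, hx⟩ = q' • mbase e' ⟨x, hx'⟩) : q = q' * R := by
  refine smul_mbase_inj he ⟨x, hx⟩ (h.trans ?_)
  rw [hR]
  exact smul_smul q' R (mbase e ⟨x, hx⟩)

lemma coef_class {x : X} {U U' : X.Opens} (hx : x ∈ U) (hx' : x ∈ U') {e : Γ(L, U)} {e' : Γ(L, U')}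
    (he : IsFrame e) (he' : IsFrame e') (g g' : (Mero.KStalk X x)ˣ)
    (h : (g : Mero.KStalk X x) • mbase e ⟨x, hx⟩ = (g' : Mero.KStalk X x) • mbase e' ⟨x, hx'⟩) :
    (QuotientGroup.mk g : Mero.Germ X x) = QuotientGroup.mk g' := by
  obtain ⟨c, hc⟩ := (he.germ_bijective hx).2 (L.presheaf.germ U' x hx' e')
  obtain ⟨d, hd⟩ := (he'.germ_bijective hx').2 (L.presheaf.germ U x hx e)
  dsimp only at hc hd
  have hcd : c * d = 1 := (he.germ_bijective hx).1 (by
    show (c * d) • _ = (1 : X.presheaf.stalk x) • _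
    rw [one_smul, mul_comm, mul_smul, hc, hd])
  exact germ_one_eq g g' ⟨c, d, hcd, (mul_comm d c).trans hcd⟩
    (coef_change hx hx' he (mbase_eq_smul hx hx' hc) h)

set_option maxHeartbeats 400000 in
/-- An invertible module with a regular meromorphic section comes from a divisor. -/
theorem exists_iso_divMod (hL : PicF.IsInvertible L) (h : Mero.HasRegularMero L) :
    ∃ D : Mero.Divisor X, Nonempty (L ≅ Mero.divMod D) := by
  obtain ⟨s, hs⟩ := h
  choose U hU e he f hf using exists_local_unit hL s hs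
  let g : ∀ (a : X) (y : U a), (Mero.KStalk X y.1)ˣ :=
    fun a y => Units.map (Mero.evalK X (U a) y).toMonoidHom (f a)
  have hD : ∀ (a : X) (y : U a),
      (QuotientGroup.mk (g y.1 ⟨y.1, hU y.1⟩) : Mero.Germ X y.1) = Mero.germOf (f a) y := fun a y =>
    coef_class (hU y.1) y.2 (he y.1) (he a) _ _ ((hf y.1 ⟨y.1, hU y.1⟩).symm.trans (hf a y))
  let D : Mero.Divisor X :=
    ⟨fun x => QuotientGroup.mk (g x ⟨x, hU x⟩), fun x => ⟨U x, hU x, f x, fun y => hD x y⟩⟩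
  have hcov : ∀ x, ∃ a, x ∈ U a := fun x => ⟨x, hU x⟩
  have hc : ∀ (a b : X) (W : X.Opens) (ha : W ≤ U a) (hb : W ≤ U b) (r : Γ(X, W)),
      AModX.res L hb (e b) = r • AModX.res L ha (e a) →
      AModX.res (Mero.divMod D) hb (DivX.gen (f b) (hD b)) =
        r • AModX.res (Mero.divMod D) ha (DivX.gen (f a) (hD a)) := by
    intro a b W ha hb r hr
    refine Subtype.ext (funext fun y => ?_)
    show ((f b)⁻¹ : (Γ(Mero.kmod X, U b))ˣ).1.1 ⟨y.1, hb y.2⟩ =
      X.presheaf.germ W y.1 y.2 r • ((f a)⁻¹ : (Γ(Mero.kmod X, U a))ˣ).1.1 ⟨y.1, ha y.2⟩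
    rw [Algebra.smul_def]
    set R := algebraMap (X.presheaf.stalk y.1) (Mero.KStalk X y.1) (X.presheaf.germ W y.1 y.2 r) with hR
    have h1 : mbase (e b) ⟨y.1, hb y.2⟩ = R • mbase (e a) ⟨y.1, ha y.2⟩ := by
      rw [← mbase_res hb, hr, mbase_smul, mbase_res]
    have h2 := (hf b ⟨y.1, hb y.2⟩).symm.trans (hf a ⟨y.1, ha y.2⟩)
    have h3 := (coef_change (ha y.2) (hb y.2) (he a) h1 h2.symm).symm
    have ha1 := DivX.unit_val_mul (f a) ⟨y.1, ha y.2⟩
    have hb1 := DivX.unit_val_mul (f b) ⟨y.1, hb y.2⟩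
    exact inv_aux ha1 hb1 h3
  let φ := ofFrames hcov he hc
  haveI : IsIso φ := DivX.isIso_of_frames φ fun x =>
    ⟨U x, hU x, e x, he x, (ofFrames_app hcov he hc x).symm ▸ DivX.isFrame_gen (f x) (hD x)⟩
  exact ⟨D, ⟨asIso φ⟩⟩

/-- `O(D)` has a regular meromorphic section. -/
theorem hasRegularMero_of_iso_divMod (D : Mero.Divisor X) (ψ : Mero.divMod D ≅ L) :
    Mero.HasRegularMero L := by
  choose U hU f hD hgen using DivX.exists_gen_frame D
  let e : ∀ a, Γ(L, U a) := fun a => ψ.hom.app (U a) (DivX.gen (f a) (hD a))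
  have he : ∀ a, IsFrame (e a) := fun a => (hgen a).map_iso ψ
  have key : ∀ (a b : X) (y : X) (ha : y ∈ U a) (hb : y ∈ U b),
      (f a).1.1 ⟨y, ha⟩ • mbase (e a) ⟨y, ha⟩ = (f b).1.1 ⟨y, hb⟩ • mbase (e b) ⟨y, hb⟩ := by
    intro a b y ha hb
    obtain ⟨r, hr⟩ := (hgen a).exists_coord (inf_le_left : U a ⊓ U b ≤ U a)
      (AModX.res (Mero.divMod D) (inf_le_right : U a ⊓ U b ≤ U b) (DivX.gen (f b) (hD b)))
    set R := algebraMap (X.presheaf.stalk y) (Mero.KStalk X y) (X.presheaf.germ (U a ⊓ U b) y ⟨ha, hb⟩ r) with hR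
    have h1 : mbase (e b) ⟨y, hb⟩ = R • mbase (e a) ⟨y, ha⟩ := by
      have hw : y ∈ U a ⊓ U b := ⟨ha, hb⟩
      have hb' := mbase_res (inf_le_right : U a ⊓ U b ≤ U b) (e b) ⟨y, hw⟩
      have ha' := mbase_res (inf_le_left : U a ⊓ U b ≤ U a) (e a) ⟨y, hw⟩
      refine hb'.symm.trans (Eq.trans ?_ (congrArg (R • ·) ha'))
      refine Eq.trans (congrArg (fun m => mbase m ⟨y, hw⟩) ?_)
        (mbase_smul (AModX.res L (inf_le_left : U a ⊓ U b ≤ U a) (e a)) r ⟨y, hw⟩)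
      rw [← AModX.app_res, hr, Scheme.Modules.Hom.app_smul, AModX.app_res]
    have h2 : ((f b)⁻¹ : (Γ(Mero.kmod X, U b))ˣ).1.1 ⟨y, hb⟩ =
        R * ((f a)⁻¹ : (Γ(Mero.kmod X, U a))ˣ).1.1 ⟨y, ha⟩ :=
      (congrArg (fun t : Γ(Mero.divMod D, U a ⊓ U b) => t.1 ⟨y, ha, hb⟩) hr).trans (Algebra.smul_def _ _)
    have ha1 := DivX.unit_val_mul (f a) ⟨y, ha⟩
    have hb1 := DivX.unit_val_mul (f b) ⟨y, hb⟩
    rw [h1, smul_smul]
    congr 1
    exact (inv_aux ((mul_comm _ _).trans hb1) ((mul_comm _ _).trans ha1)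
      ((mul_comm _ _).trans h2.symm)).trans (mul_comm _ _)
  refine ⟨⟨fun y => (f y.1).1.1 ⟨y.1, hU y.1⟩ • mbase (e y.1) ⟨y.1, hU y.1⟩, fun x => ?_⟩,
    isRegularMero_of_local _ fun x => ⟨U x, hU x, e x, he x, (f x).1,
      (f x).isUnit.map (Mero.evalK X (U x) ⟨x, hU x⟩), rfl⟩⟩
  obtain ⟨W, hxW, i, a, b, hab⟩ := (f x.1).1.2 ⟨x.1, hU x.1⟩
  refine ⟨W, hxW, homOfLE le_top, a • AModX.res L i.le (e x.1), b, fun z => ?_⟩
  refine (key z.1 x.1 z.1 (hU z.1) (i.le z.2)).trans ((congrArg (· • _) (hab z)).trans ?_)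
  rw [kmk_smul_mk, mul_one]
  refine Mero.mk_congr ?_ rfl
  rw [QCoh.germ_smul', germ_res']

lemma mLoc_of_local (v : ∀ y : (⊤ : X.Opens), Mero.MStalk L y.1)
    (h : ∀ x : X, ∃ (W : X.Opens) (_ : x ∈ W) (e : Γ(L, W)) (t : Γ(Mero.kmod X, W)),
      ∀ y : W, v ⟨y.1, trivial⟩ = t.1 y • mbase e y) : (Mero.mLoc L).pred v := by
  intro x
  obtain ⟨W, hxW, e, t, ht⟩ := h x.1
  obtain ⟨W', hxW', i, a, b, hab⟩ := t.2 ⟨x.1, hxW⟩
  refine ⟨W', hxW', homOfLE le_top, a • AModX.res L i.le e, b, fun z => ?_⟩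
  refine (ht ⟨z.1, i.le z.2⟩).trans ((congrArg (· • _) (hab z)).trans ?_)
  rw [kmk_smul_mk, mul_one]
  refine Mero.mk_congr ?_ rfl
  rw [QCoh.germ_smul', germ_res']

/-- A regular meromorphic section from generators at the weakly associated points. -/
theorem hasRegularMero_of_generators
    (σ : ∀ z : X, Mero.MStalk L z)
    (h : ∀ x : X, ∃ (W : X.Opens) (_ : x ∈ W) (e : Γ(L, W)) (_ : IsFrame e) (t : Γ(Mero.kmod X, W)),
      IsUnit t ∧ ∀ z : W, WAss z.1 → σ z.1 = t.1 z • mbase e z) :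
    Mero.HasRegularMero L := by
  choose W hW e he t hu ht using h
  have key : ∀ (a b y : X) (ha : y ∈ W a) (hb : y ∈ W b),
      (t a).1 ⟨y, ha⟩ • mbase (e a) ⟨y, ha⟩ = (t b).1 ⟨y, hb⟩ • mbase (e b) ⟨y, hb⟩ := by
    intro a b y ha hb
    obtain ⟨r, hr⟩ := (he a).exists_coord (inf_le_left : W a ⊓ W b ≤ W a)
      (AModX.res L (inf_le_right : W a ⊓ W b ≤ W b) (e b))
    have h1 : ∀ (w : (W a ⊓ W b : X.Opens)), mbase (e b) ⟨w.1, w.2.2⟩ =
        algebraMap (X.presheaf.stalk w.1) (Mero.KStalk X w.1) (X.presheaf.germ _ w.1 w.2 r) •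
          mbase (e a) ⟨w.1, w.2.1⟩ := fun w => by
      rw [← mbase_res (inf_le_right : W a ⊓ W b ≤ W b) (e b) w, hr, mbase_smul, mbase_res]
    have heq := kmod_ext_wAss ((Mero.kmod X).presheaf.map (homOfLE inf_le_left).op (t a) :
        Γ(Mero.kmod X, W a ⊓ W b))
      (((Mero.kmod X).presheaf.map (homOfLE inf_le_right).op (t b) : Γ(Mero.kmod X, W a ⊓ W b)) *
        Mero.toK X _ r)
      (fun w hw => smul_mbase_inj (he a) ⟨w.1, w.2.1⟩ (by
        have h2 := (ht a ⟨w.1, w.2.1⟩ hw).symm.trans (ht b ⟨w.1, w.2.2⟩ hw)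
        rw [h1 w, smul_smul] at h2
        exact h2))
    rw [h1 ⟨y, ha, hb⟩, smul_smul]
    exact congrArg (· • mbase (e a) ⟨y, ha⟩)
      (congrArg (fun f : Γ(Mero.kmod X, W a ⊓ W b) => f.1 ⟨y, ha, hb⟩) heq)
  refine ⟨⟨fun y => (t y.1).1 ⟨y.1, hW y.1⟩ • mbase (e y.1) ⟨y.1, hW y.1⟩,
    mLoc_of_local _ fun x => ⟨W x, hW x, e x, t x, fun y => key y.1 x y.1 (hW y.1) y.2⟩⟩,
    isRegularMero_of_local _ fun x => ⟨W x, hW x, e x, he x, t x,
      (hu x).map (Mero.evalK X (W x) ⟨x, hW x⟩), rfl⟩⟩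

end Groth.Agent.Div86
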