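import Groth.Agent.Div86.GenOrd
import Groth.Agent.InvX.Tensor
import Groth.Agent.S1692

/-!
# Rational sections in frames
-/

set_option autoImplicit false
set_option linter.style.haveILetI false
set_option backward.isDefEq.respectTransparency false
set_option backward.isDefEq.respectTransparency.types false

universe u

open CategoryTheory AlgebraicGeometry TopologicalSpace Groth.Agent.H23 Groth.Agent.InvX

namespace Groth.Agent.Div86

variable {X : Scheme.{u}} [IsIntegral X] {L : X.Modules}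

omit [IsIntegral X] in
lemma span_germ {U : X.Opens} {e : Γ(L, U)} (he : IsFrame e) {x : X} (hx : x ∈ U) :
    Submodule.span (X.presheaf.stalk x) {L.presheaf.germ U x hx e} = ⊤ :=
  (RatSec.isGen_germ he x hx).1

/-- The class at the generic point of a section. -/
noncomputable def gcls {U : X.Opens} (e : Γ(L, U)) (hU : genericPoint X ∈ U) :
    Cyc.secFibre L (genericPoint X) :=
  RatSec.cls L (genericPoint X) (L.presheaf.germ U (genericPoint X) hU e)

lemma gcls_res {U V : X.Opens} (h : V ≤ U) (e : Γ(L, U)) (hV : genericPoint X ∈ V) :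
    gcls (AModX.res L h e) hV = gcls e (h hV) := by
  rw [gcls, gcls, germ_res']

lemma gcls_smul {U : X.Opens} (r : Γ(X, U)) (e : Γ(L, U)) (hU : genericPoint X ∈ U) :
    gcls (r • e) hU = (X.presheaf.germ U (genericPoint X) hU r : X.functionField) • gcls e hU := by
  rw [gcls, gcls, QCoh.germ_smul', RatSec.cls_smul]

lemma generic_mem {U : X.Opens} {x : X} (hx : x ∈ U) : genericPoint X ∈ U :=
  ((genericPoint_spec X).specializes trivial).mem_open U.2 hx

lemma exists_coord_gcls (hL : PicF.IsInvertible L) {U : X.Opens} {e : Γ(L, U)} (he : IsFrame e) {x : X}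
    (hx : x ∈ U) {s : Cyc.secFibre L (genericPoint X)} (hs : s ≠ 0) :
    ∃ φ : X.functionField, φ ≠ 0 ∧ s = φ • gcls e (generic_mem hx) := by
  obtain ⟨φ, hφ0, hφ⟩ := exists_coord_generic ((genericPoint_spec X).specializes trivial) hL
    (span_germ he hx) hs
  refine ⟨φ, hφ0, hφ.trans ?_⟩
  rw [TopCat.Presheaf.germ_stalkSpecializes_apply]
  rfl

variable [IsLocallyNoetherian X]

theorem secOrdAt_gcls (hL : PicF.IsInvertible L) {U : X.Opens} {e : Γ(L, U)} (he : IsFrame e) {x : X}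
    (hx : x ∈ U) (h : genericPoint X ⤳ x) (hx1 : Order.coheight x = 1)
    {s : Cyc.secFibre L (genericPoint X)} {φ : X.functionField} (hφ : φ ≠ 0)
    (hs : s = φ • gcls e (generic_mem hx)) :
    Cyc.secOrdAt L (genericPoint X) x h s = Scheme.ord φ x := by
  refine secOrdAt_generic hL h hx1 (span_germ he hx) hφ (hs.trans ?_)
  rw [TopCat.Presheaf.germ_stalkSpecializes_apply]
  rfl

omit [IsIntegral X] [IsLocallyNoetherian X] in
lemma coheight_eq_one_iff (x : X) : ringKrullDim (X.presheaf.stalk x) = 1 ↔ Order.coheight x = 1 := by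
  rw [ringKrullDim_stalk_eq_coheight]
  exact ⟨fun h => WithBot.coe_inj.1 h, fun h => congrArg _ h⟩

theorem secOrd_locallyFinite (hL : PicF.IsInvertible L) (s : Cyc.secFibre L (genericPoint X)) (hs : s ≠ 0) :
    LocallyFinite (fun x : {x : X // ringKrullDim (X.presheaf.stalk x) = 1 ∧
        Cyc.secOrdAt L (genericPoint X) x ((genericPoint_spec X).specializes (Set.mem_univ x)) s ≠ 0} =>
      closure ({x.1} : Set X)) := by
  intro p
  obtain ⟨U, hpU, e, he⟩ := exists_frame hL p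
  obtain ⟨φ, hφ0, hφ⟩ := exists_coord_gcls hL he hpU hs
  obtain ⟨N, hN, hfin⟩ := Groth.Agent.S1692.result X φ hφ0 p
  refine ⟨N ∩ U, Filter.inter_mem hN (U.2.mem_nhds hpU), ?_⟩
  have hmem : ∀ x : X, (closure ({x} : Set X) ∩ (N ∩ U)).Nonempty → x ∈ U := by
    rintro x ⟨z, hz, -, hzU⟩
    exact (specializes_iff_mem_closure.2 hz).mem_open U.2 hzU
  refine ((hfin.image Subtype.val).preimage Subtype.val_injective.injOn).subset ?_
  rintro ⟨x, hx1, hx2⟩ hne
  have hxU := hmem x hne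
  have hc := (coheight_eq_one_iff x).1 hx1
  refine ⟨⟨x, hc, fun h0 => hx2 ?_⟩, ?_, rfl⟩
  · rw [secOrdAt_gcls hL he hxU _ hc hφ0 hφ]
    exact h0
  · obtain ⟨z, hz, hzN, -⟩ := hne
    exact ⟨z, hz, hzN⟩

omit [IsLocallyNoetherian X] in
lemma gcls_ne_zero {U : X.Opens} {e : Γ(L, U)} (he : IsFrame e) (hU : genericPoint X ∈ U)
    {φ : X.functionField} (hφ : φ ≠ 0) : φ • gcls e hU ≠ 0 :=
  (RatSec.residue_ne_zero (RatSec.isGen_germ he _ hU)).1 (resG_ne_zero hφ)

theorem exists_tensor_secOrd {N : X.Modules} (hL : PicF.IsInvertible L) (hN : PicF.IsInvertible N)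
    {s : Cyc.secFibre L (genericPoint X)} (hs : s ≠ 0) {t : Cyc.secFibre N (genericPoint X)} (ht : t ≠ 0) :
    ∃ w : Cyc.secFibre (CohB1.tensorMod L N) (genericPoint X), w ≠ 0 ∧
      ∀ (x : X) (h : genericPoint X ⤳ x), Order.coheight x = 1 →
        Cyc.secOrdAt (CohB1.tensorMod L N) (genericPoint X) x h w =
          Cyc.secOrdAt L (genericPoint X) x h s + Cyc.secOrdAt N (genericPoint X) x h t := by
  obtain ⟨U, hU, e, f, he, hf⟩ := exists_frame₂ hL hN (genericPoint X)
  obtain ⟨a, ha0, ha⟩ := exists_coord_gcls hL he hU hs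
  obtain ⟨b, hb0, hb⟩ := exists_coord_gcls hN hf hU ht
  refine ⟨(a * b) • gcls (tmul e f) hU, gcls_ne_zero (isFrame_tmul he hf) hU (mul_ne_zero ha0 hb0),
    fun x h hx1 => ?_⟩
  obtain ⟨V, hV, e', f', he', hf'⟩ := exists_frame₂ hL hN x
  have hW : genericPoint X ∈ U ⊓ V := ⟨hU, generic_mem hV⟩
  obtain ⟨u, hu⟩ := he'.exists_coord (inf_le_right : U ⊓ V ≤ V) (AModX.res L (inf_le_left : U ⊓ V ≤ U) e)
  obtain ⟨v, hv⟩ := hf'.exists_coord (inf_le_right : U ⊓ V ≤ V) (AModX.res N (inf_le_left : U ⊓ V ≤ U) f)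
  set u' : X.functionField := X.presheaf.germ (U ⊓ V) (genericPoint X) hW u with hu'
  set v' : X.functionField := X.presheaf.germ (U ⊓ V) (genericPoint X) hW v with hv'
  have he1 : gcls e hU = u' • gcls e' (generic_mem hV) := by
    rw [← gcls_res (inf_le_left : U ⊓ V ≤ U) e hW, hu, gcls_smul, gcls_res]
  have hf1 : gcls f hU = v' • gcls f' (generic_mem hV) := by
    rw [← gcls_res (inf_le_left : U ⊓ V ≤ U) f hW, hv, gcls_smul, gcls_res]
  have hef : gcls (tmul e f) hU = (u' * v') • gcls (tmul e' f') (generic_mem hV) := by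
    rw [← gcls_res (inf_le_left : U ⊓ V ≤ U) (tmul e f) hW, res_tmul, hu, hv, tmul_smul_left,
      tmul_smul_right, ← res_tmul, gcls_smul, gcls_smul, gcls_res, smul_smul]
  have hu0 : u' ≠ 0 := fun h0 => gcls_ne_zero he hU one_ne_zero (by
    rw [one_smul, he1, h0]; exact zero_smul _ _)
  have hv0 : v' ≠ 0 := fun h0 => gcls_ne_zero hf hU one_ne_zero (by
    rw [one_smul, hf1, h0]; exact zero_smul _ _)
  rw [secOrdAt_gcls (isInvertible_tensorMod hL hN) (isFrame_tmul he' hf') hV h hx1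
      (φ := (a * b) * (u' * v')) (mul_ne_zero (mul_ne_zero ha0 hb0) (mul_ne_zero hu0 hv0))
      (by rw [hef, smul_smul]),
    secOrdAt_gcls hL he' hV h hx1 (φ := a * u') (mul_ne_zero ha0 hu0) (by rw [ha, he1, smul_smul]),
    secOrdAt_gcls hN hf' hV h hx1 (φ := b * v') (mul_ne_zero hb0 hv0) (by rw [hb, hf1, smul_smul]),
    Scheme.ord_mul (mul_ne_zero ha0 hb0) (mul_ne_zero hu0 hv0), Scheme.ord_mul ha0 hb0,
    Scheme.ord_mul hu0 hv0, Scheme.ord_mul ha0 hu0, Scheme.ord_mul hb0 hv0]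
  ring

end Groth.Agent.Div86
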